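import Cfsg.Agent.H992.MU.Mult

/-!
# The exact braid relation of length six of the `μ`-elements; `MultOne` for every root group datum (helper992)
-/

set_option autoImplicit false
set_option linter.unusedSectionVars false

namespace Cfsg.Agent.H992.MU

open CoxeterSystem Cfsg.Agent.ChevalleyStructure.CoxeterGeom Cfsg.Agent.Tits.Roots Cfsg.Agent.Tits.Core
  Cfsg.Agent.Tits.Exchange Cfsg.Agent.Nodes.Reps Cfsg.Agent.Nodes.BNOf Cfsg.Agent.Nodes.OppDec
  Cfsg.Agent.Nodes.MuSq
open scoped commutatorElement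

variable {I W Y : Type*} [Fintype I] [DecidableEq I] [Group W] [Group Y] {M : CoxeterMatrix I}
  {cs : CoxeterSystem M W} {A : I → I → ℤ} {h : IsCartan M A} {p : ℕ} {T : Subgroup Y} {n : I → Y}
  {X : (I → ℤ) → Subgroup Y}

/-! ### Roots of the plane -/

/-- `u α_i + v α_j` -/
def Ev (i j : I) (u v : ℤ) : I → ℤ := u • sr i + v • sr j

theorem Ev_i {i j : I} (hij : i ≠ j) (u v : ℤ) : Ev i j u v i = u := by
  simp only [Ev, Pi.add_apply, Pi.smul_apply, smul_eq_mul, sr_self, sr_ne hij]; ring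

theorem Ev_j {i j : I} (hij : i ≠ j) (u v : ℤ) : Ev i j u v j = v := by
  simp only [Ev, Pi.add_apply, Pi.smul_apply, smul_eq_mul, sr_self, sr_ne hij.symm]; ring

theorem Ev_ne {i j q : I} (hi : q ≠ i) (hj : q ≠ j) (u v : ℤ) : Ev i j u v q = 0 := by
  simp only [Ev, Pi.add_apply, Pi.smul_apply, smul_eq_mul, sr_ne hi, sr_ne hj]; ring

theorem Ev_inj {i j : I} (hij : i ≠ j) {u v u' v' : ℤ} (e : Ev i j u v = Ev i j u' v') : u = u' ∧ v = v' := by
  have h1 := congrFun e i
  have h2 := congrFun e j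
  rw [Ev_i hij, Ev_i hij] at h1
  rw [Ev_j hij, Ev_j hij] at h2
  exact ⟨h1, h2⟩

theorem Ev_congr (i j : I) {u v u' v' : ℤ} (h1 : u = u') (h2 : v = v') : Ev i j u v = Ev i j u' v' := by rw [h1, h2]

theorem sr_i_eq (i j : I) : sr i = Ev i j 1 0 := by rw [Ev, one_smul, zero_smul, add_zero]

theorem sr_j_eq (i j : I) : sr j = Ev i j 0 1 := by rw [Ev, one_smul, zero_smul, zero_add]

theorem Ev_neg (i j : I) (u v : ℤ) : -Ev i j u v = Ev i j (-u) (-v) := by
  funext q
  simp only [Ev, Pi.add_apply, Pi.smul_apply, smul_eq_mul, Pi.neg_apply]; ring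

theorem Ev_comb (i j : I) (a b u v u' v' : ℤ) :
    a • Ev i j u v + b • Ev i j u' v' = Ev i j (a * u + b * u') (a * v + b * v') := by
  funext q
  simp only [Ev, Pi.add_apply, Pi.smul_apply, smul_eq_mul]; ring

theorem Ev_smul (i j : I) (a u v : ℤ) : a • Ev i j u v = Ev i j (a * u) (a * v) := by
  funext q
  simp only [Ev, Pi.add_apply, Pi.smul_apply, smul_eq_mul]; ring

section Refl

variable {i j : I} {k l : ℤ}

theorem rep_i (h : IsCartan M A) (hk : k = -A i j) (u v : ℤ) :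
    rep cs h (cs.simple i) (Ev i j u v) = Ev i j (-u + k * v) v := by
  rw [Ev, map_add, map_smul, map_smul, rep_simple_sr, si_sj h, ← hk]
  funext q
  simp only [Ev, Pi.add_apply, Pi.smul_apply, smul_eq_mul, Pi.neg_apply]; ring

theorem rep_j (h : IsCartan M A) (hl : l = -A j i) (u v : ℤ) :
    rep cs h (cs.simple j) (Ev i j u v) = Ev i j u (-v + l * u) := by
  rw [Ev, map_add, map_smul, map_smul, rep_simple_sr, si_sj h, ← hl]
  funext q
  simp only [Ev, Pi.add_apply, Pi.smul_apply, smul_eq_mul, Pi.neg_apply]; ring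

end Refl

/-- the element of the plane lies between -/
theorem btwn_Ev {i j : I} (hij : i ≠ j) {u v u' v' : ℤ} {z : I → ℤ} (hz : Btwn cs h (Ev i j u v) (Ev i j u' v') z) :
    ∃ (m a b s t : ℤ), 0 < m ∧ 0 < a ∧ 0 < b ∧ z = Ev i j s t ∧ m * s = a * u + b * u' ∧ m * t = a * v + b * v' := by
  obtain ⟨-, m, a, b, hm, ha, hb, e⟩ := hz
  refine ⟨m, a, b, z i, z j, hm, ha, hb, ?_, ?_, ?_⟩
  · rw [Ev_comb] at e
    funext q
    by_cases hi : q = i
    · rw [hi, Ev_i hij]
    by_cases hj : q = j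
    · rw [hj, Ev_j hij]
    · have := congrFun e q
      rw [Ev_ne hi hj, Pi.smul_apply, smul_eq_mul] at this
      rw [Ev_ne hi hj]
      rcases mul_eq_zero.1 this with h1 | h1
      · omega
      · exact h1
  · have := congrFun e i
    rw [Ev_comb, Ev_i hij, Pi.smul_apply, smul_eq_mul] at this
    exact this
  · have := congrFun e j
    rw [Ev_comb, Ev_j hij, Pi.smul_apply, smul_eq_mul] at this
    exact this

theorem btwn_of_Ev {i j : I} {m a b s t u v u' v' : ℤ} (hr : IsRoot cs h (Ev i j s t)) (hm : 0 < m) (ha : 0 < a)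
    (hb : 0 < b) (h1 : m * s = a * u + b * u') (h2 : m * t = a * v + b * v') :
    Btwn cs h (Ev i j u v) (Ev i j u' v') (Ev i j s t) :=
  ⟨hr, m, a, b, hm, ha, hb, by rw [Ev_comb, Ev_smul, h1, h2]⟩

section Cls

variable {i j : I} (hij : i ≠ j) {k l : ℤ} (hk : k = -A i j) (hl : l = -A j i)

include hij

theorem Ev_pos_i {u v : ℤ} (hr : IsRoot cs h (Ev i j u v)) (hu : 0 < u) : 0 ≤ v := by
  rcases hr.pos_or_neg with h0 | h0
  · have := h0 j
    rwa [Ev_j hij] at this
  · have h1 : Ev i j u v i ≤ 0 := h0 i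
    rw [Ev_i hij] at h1
    omega

theorem Ev_pos_j {u v : ℤ} (hr : IsRoot cs h (Ev i j u v)) (hv : 0 < v) : 0 ≤ u := by
  rcases hr.pos_or_neg with h0 | h0
  · have := h0 i
    rwa [Ev_i hij] at this
  · have h1 : Ev i j u v j ≤ 0 := h0 j
    rw [Ev_j hij] at h1
    omega

theorem Ev_eq_i {u : ℤ} (hr : IsRoot cs h (Ev i j u 0)) (hu : 0 < u) : u = 1 := by
  have h0 : 0 ≤ Ev i j u 0 := by
    intro q
    rw [Pi.zero_apply]
    by_cases hi : q = i
    · rw [hi, Ev_i hij]; exact hu.le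
    by_cases hj : q = j
    · rw [hj, Ev_j hij]
    · rw [Ev_ne hi hj]
  have h1 := hr.eq_sr h0 i fun q hq => by
    by_cases hj : q = j
    · rw [hj, Ev_j hij]
    · rw [Ev_ne hq hj]
  have h2 := congrFun h1 i
  rwa [Ev_i hij, sr_self] at h2

theorem Ev_eq_j {v : ℤ} (hr : IsRoot cs h (Ev i j 0 v)) (hv : 0 < v) : v = 1 := by
  have h0 : 0 ≤ Ev i j 0 v := by
    intro q
    rw [Pi.zero_apply]
    by_cases hi : q = i
    · rw [hi, Ev_i hij]
    by_cases hj : q = j
    · rw [hj, Ev_j hij]; exact hv.le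
    · rw [Ev_ne hi hj]
  have h1 := hr.eq_sr h0 j fun q hq => by
    by_cases hi : q = i
    · rw [hi, Ev_i hij]
    · rw [Ev_ne hi hq]
  have h2 := congrFun h1 j
  rwa [Ev_j hij, sr_self] at h2

include hk hl

/-- the roots with slope larger than that of `s_i α_j` -/
theorem cls (hkl : k * l = 3) {u v : ℤ} (hr : IsRoot cs h (Ev i j u v)) (hu : 0 < u) (huv : u < k * v) :
    (u = 2 ∧ v = l) ∨ (u = k ∧ v = 2) ∨ (u = 1 ∧ v = l) := by
  have r1 : IsRoot cs h (Ev i j (-u + k * v) v) := by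
    have := hr.act (cs.simple i); rwa [rep_i h hk] at this
  have r2 : IsRoot cs h (Ev i j (-u + k * v) (2 * v - l * u)) := by
    have := r1.act (cs.simple j); rw [rep_j h hl] at this
    rwa [Ev_congr i j (rfl : -u + k * v = -u + k * v) (show -v + l * (-u + k * v) = 2 * v - l * u by linear_combination v * hkl)] at this
  have p2 := Ev_pos_i hij r2 (by linarith)
  rcases p2.eq_or_lt with p2 | p2
  · left
    rw [← p2] at r2
    have h1 := Ev_eq_i hij r2 (by linarith)
    constructor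
    · linear_combination 2 * h1 + k * p2 - u * hkl
    · linear_combination l * h1 - v * hkl + p2
  have r3 : IsRoot cs h (Ev i j (k * v - 2 * u) (2 * v - l * u)) := by
    have := r2.act (cs.simple i); rw [rep_i h hk] at this
    rwa [Ev_congr i j (show -(-u + k * v) + k * (2 * v - l * u) = k * v - 2 * u by linear_combination (-u) * hkl) rfl] at this
  have p3 := Ev_pos_j hij r3 p2
  rcases p3.eq_or_lt with p3 | p3
  · right; left
    rw [← p3] at r3
    have h1 := Ev_eq_j hij r3 p2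
    constructor
    · linear_combination k * h1 + u * hkl + 2 * p3
    · linear_combination 2 * h1 + v * hkl + l * p3
  have r4 : IsRoot cs h (Ev i j (k * v - 2 * u) (v - l * u)) := by
    have := r3.act (cs.simple j); rw [rep_j h hl] at this
    rwa [Ev_congr i j rfl (show -(2 * v - l * u) + l * (k * v - 2 * u) = v - l * u by linear_combination v * hkl)] at this
  have p4 := Ev_pos_i hij r4 p3
  rcases p4.eq_or_lt with p4 | p4
  · right; right
    rw [← p4] at r4
    have h1 := Ev_eq_i hij r4 p3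
    have h2 : u = 1 := by linear_combination h1 - u * hkl + k * p4
    refine ⟨h2, ?_⟩
    rw [h2] at p4
    linear_combination -p4
  exfalso
  have r5 : IsRoot cs h (Ev i j (-u) (v - l * u)) := by
    have := r4.act (cs.simple i); rw [rep_i h hk] at this
    rwa [Ev_congr i j (show -(k * v - 2 * u) + k * (v - l * u) = -u by linear_combination (-u) * hkl) rfl] at this
  have p5 := Ev_pos_j hij r5 p4
  omega

end Cls

section RG

variable (R : RGD cs h p T n X) {i j : I} (hij : i ≠ j) {k l : ℤ} (hk : k = -A i j) (hl : l = -A j i) (hkl : k * l = 3)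
  (hk0 : 0 < k) (hl0 : 0 < l)

include hk hl in
omit R in
theorem roots6 (hkl : k * l = 3) : IsRoot cs h (Ev i j k 1) ∧ IsRoot cs h (Ev i j 2 l) ∧ IsRoot cs h (Ev i j k 2) ∧
    IsRoot cs h (Ev i j 1 l) ∧ IsRoot cs h (Ev i j 0 1) ∧ IsRoot cs h (Ev i j 1 0) := by
  have r5 : IsRoot cs h (Ev i j 0 1) := by rw [← sr_j_eq]; exact isRoot_sr cs h j
  have r0 : IsRoot cs h (Ev i j 1 0) := by rw [← sr_i_eq]; exact isRoot_sr cs h i
  have r1 : IsRoot cs h (Ev i j k 1) := by
    have := r5.act (cs.simple i); rw [rep_i h hk] at this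
    rwa [Ev_congr i j (show -0 + k * 1 = k by ring) rfl] at this
  have r4 : IsRoot cs h (Ev i j 1 l) := by
    have := r0.act (cs.simple j); rw [rep_j h hl] at this
    rwa [Ev_congr i j rfl (show -0 + l * 1 = l by ring)] at this
  have r2 : IsRoot cs h (Ev i j 2 l) := by
    have := r4.act (cs.simple i); rw [rep_i h hk] at this
    rwa [Ev_congr i j (show -1 + k * l = 2 by rw [hkl]; norm_num) rfl] at this
  have r3 : IsRoot cs h (Ev i j k 2) := by
    have := r1.act (cs.simple j); rw [rep_j h hl] at this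
    rwa [Ev_congr i j rfl (show -1 + l * k = 2 by rw [mul_comm, hkl]; norm_num)] at this
  exact ⟨r1, r2, r3, r4, r5, r0⟩

include R hij hk hl hkl hk0 hl0

omit R hk0 hl0 in
/-- the roots of the cone -/
theorem cls_btwn {u v u' v' : ℤ} {z : I → ℤ} (hz : Btwn cs h (Ev i j u v) (Ev i j u' v') z) (h1 : 0 < u) (h2 : 0 ≤ u')
    (h3 : u ≤ k * v) (h4 : u' < k * v') : ∃ m a b s t : ℤ, 0 < m ∧ 0 < a ∧ 0 < b ∧ z = Ev i j s t ∧
      m * s = a * u + b * u' ∧ m * t = a * v + b * v' ∧ ((s = 2 ∧ t = l) ∨ (s = k ∧ t = 2) ∨ (s = 1 ∧ t = l)) := by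
  obtain ⟨m, a, b, s, t, hm, ha, hb, e, e1, e2⟩ := btwn_Ev hij hz
  refine ⟨m, a, b, s, t, hm, ha, hb, e, e1, e2, ?_⟩
  have hs : 0 < s := by
    have h5 : 0 < m * s := by rw [e1]; positivity
    exact (mul_pos_iff_of_pos_left hm).1 h5
  have hst : s < k * t := by
    have h5 : 0 < m * (k * t - s) := by
      have e3 : m * (k * t - s) = a * (k * v - u) + b * (k * v' - u') := by linear_combination k * e2 - e1
      rw [e3]
      have h6 : 0 ≤ a * (k * v - u) := mul_nonneg ha.le (by linarith)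
      have h7 : 0 < b * (k * v' - u') := mul_pos hb (by linarith)
      linarith
    have := (mul_pos_iff_of_pos_left hm).1 h5
    linarith
  have hr := hz.1
  rw [e] at hr
  exact cls hij hk hl hkl hr hs hst

theorem decomp3 {y : Y} (hy : y ∈ RGD.Sup X (S' cs h 1 i j)) :
    ∃ x2 ∈ X (Ev i j 2 l), ∃ x3 ∈ X (Ev i j k 2), ∃ x4 ∈ X (Ev i j 1 l), y = x2 * x3 * x4 := by
  obtain ⟨r1, r2, r3, r4, r5, r0⟩ := roots6 (cs := cs) (h := h) hk hl hkl
  have e1 : rep cs h ((1 : W) * cs.simple i) (sr j) = Ev i j k 1 := by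
    rw [one_mul, sr_j_eq i j, rep_i h hk]
    exact Ev_congr i j (by ring) rfl
  have e5 : rep cs h (1 : W) (sr j) = Ev i j 0 1 := by
    rw [map_one, Module.End.one_apply, ← sr_j_eq]
  -- the normalizers
  have n34 : X (Ev i j k 2) ≤ Subgroup.normalizer (RGD.Sup X ({Ev i j 1 l} : Set (I → ℤ)) : Set Y) := by
    refine R.le_normalizer r3 fun z hz => ?_
    rw [Set.mem_singleton_iff] at hz
    subst hz
    refine ⟨r4, Or.inr ⟨fun e => ?_, fun z hz => ?_⟩⟩
    · rw [Ev_neg] at e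
      have := (Ev_inj hij e).1
      omega
    · obtain ⟨m, a, b, s, t, hm, ha, hb, e, h1, h2, h3⟩ := cls_btwn hij hk hl hkl hz hk0 zero_le_one (by linarith)
        (by linarith)
      rw [Set.mem_singleton_iff, e]
      rcases h3 with ⟨h3, h4⟩ | ⟨h3, h4⟩ | ⟨h3, h4⟩
      · exfalso
        rw [h3] at h1
        rw [h4] at h2
        have : a + l * b = 0 := by linear_combination l * h1 - 2 * h2 + a * hkl
        nlinarith [mul_pos hl0 hb]
      · exfalso
        rw [h3] at h1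
        rw [h4] at h2
        have : b = 0 := by linear_combination 2 * h1 - k * h2 - b * hkl
        omega
      · rw [h3, h4]
  have n234 : X (Ev i j 2 l) ≤ Subgroup.normalizer (RGD.Sup X ({Ev i j k 2, Ev i j 1 l} : Set (I → ℤ)) : Set Y) := by
    refine R.le_normalizer r2 fun z hz => ?_
    rcases hz with hz | hz
    · subst hz
      refine ⟨r3, Or.inr ⟨fun e => ?_, fun z hz => ?_⟩⟩
      · rw [Ev_neg] at e
        have := (Ev_inj hij e).1
        omega
      · obtain ⟨m, a, b, s, t, hm, ha, hb, e, h1, h2, h3⟩ := cls_btwn hij hk hl hkl hz two_pos hk0.le (by linarith)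
          (by linarith)
        rw [e]
        rcases h3 with ⟨h3, h4⟩ | ⟨h3, h4⟩ | ⟨h3, h4⟩
        · exfalso
          rw [h3] at h1
          rw [h4] at h2
          have : b = 0 := by linear_combination l * h1 - 2 * h2 + b * hkl
          omega
        · left; rw [h3, h4]
        · right; rw [h3, h4]; rfl
    · rw [Set.mem_singleton_iff] at hz
      subst hz
      refine ⟨r4, Or.inr ⟨fun e => ?_, fun z hz => ?_⟩⟩
      · rw [Ev_neg] at e
        have := (Ev_inj hij e).1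
        omega
      · obtain ⟨m, a, b, s, t, hm, ha, hb, e, h1, h2, h3⟩ := cls_btwn hij hk hl hkl hz two_pos zero_le_one (by linarith)
          (by linarith)
        rw [e]
        rcases h3 with ⟨h3, h4⟩ | ⟨h3, h4⟩ | ⟨h3, h4⟩
        · exfalso
          rw [h3] at h1
          rw [h4] at h2
          have : b * l = 0 := by linear_combination l * h1 - 2 * h2
          nlinarith [mul_pos hb hl0]
        · left; rw [h3, h4]
        · right; rw [h3, h4]; rfl
  have hy1 : y ∈ X (Ev i j 2 l) ⊔ RGD.Sup X ({Ev i j k 2, Ev i j 1 l} : Set (I → ℤ)) := by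
    refine (RGD.Sup_le fun z hz => ?_ : RGD.Sup X (S' cs h 1 i j) ≤ _) hy
    have hz' : Btwn cs h (Ev i j k 1) (Ev i j 0 1) z := by
      have h1 : Btwn cs h (rep cs h ((1 : W) * cs.simple i) (sr j)) (rep cs h (1 : W) (sr j)) z := hz
      rwa [e1, e5] at h1
    obtain ⟨m, a, b, s, t, hm, ha, hb, e, h1, h2, h3⟩ := cls_btwn hij hk hl hkl hz' hk0 le_rfl (by linarith)
      (by linarith)
    rw [e]
    rcases h3 with ⟨h3, h4⟩ | ⟨h3, h4⟩ | ⟨h3, h4⟩
    · rw [h3, h4]; exact le_sup_left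
    · rw [h3, h4]; exact le_trans (RGD.le_Sup (Set.mem_insert _ _)) le_sup_right
    · rw [h3, h4]; exact le_trans (RGD.le_Sup (Set.mem_insert_of_mem _ (Set.mem_singleton _))) le_sup_right
  obtain ⟨x2, hx2, y2, hy2, ey⟩ := exists_mul_of_norm n234 hy1
  have hy3 : y2 ∈ X (Ev i j k 2) ⊔ RGD.Sup X ({Ev i j 1 l} : Set (I → ℤ)) := by
    refine (RGD.Sup_le fun z hz => ?_ : RGD.Sup X ({Ev i j k 2, Ev i j 1 l} : Set (I → ℤ)) ≤ _) hy2
    rcases hz with hz | hz
    · rw [hz]; exact le_sup_left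
    · exact le_trans (RGD.le_Sup hz) le_sup_right
  obtain ⟨x3, hx3, y3, hy3, ey2⟩ := exists_mul_of_norm n34 hy3
  have hy4 : y3 ∈ X (Ev i j 1 l) := by
    refine (RGD.Sup_le fun z hz => ?_ : RGD.Sup X ({Ev i j 1 l} : Set (I → ℤ)) ≤ _) hy3
    rw [Set.mem_singleton_iff] at hz
    rw [hz]
  exact ⟨x2, hx2, x3, hx3, y3, hy4, by rw [ey, ey2]; group⟩

end RG

/-- the computation in the group -/
theorem six_aux {G : Type*} [Group G] {m N m1 m2 m3 m4 : G} (h1 : m1 = m⁻¹ * N * m) (h2 : m2 = m1⁻¹ * m * m1)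
    (h3 : m3 = m2⁻¹ * m1 * m2) (h4 : m4 = m3⁻¹ * m2 * m3) (h5 : m4⁻¹ * m3 * m4 = N) :
    m * N * m * N * m * N = N * m * N * m * N * m := by
  have e1 : m * m1 = N * m := by rw [h1]; group
  have e2 : m1 * m2 = N * m := by rw [← e1, h2]; group
  have e3 : m2 * m3 = N * m := by rw [← e2, h3]; group
  have e4 : m3 * m4 = N * m := by rw [← e3, h4]; group
  have e5 : m4 * N = N * m := by rw [← e4, ← h5]; group
  calc m * N * m * N * m * N = m * (N * m) * (N * m) * N := by group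
    _ = m * (m1 * m2) * (m3 * m4) * N := by rw [e2, e4]
    _ = (m * m1) * (m2 * m3) * (m4 * N) := by group
    _ = N * m * N * m * N * m := by rw [e1, e3, e5]; group

theorem braid6 [Finite W] (R : RGD cs h p T n X) {i j : I} (hij : i ≠ j) {a c m d f N : Y} (H : Mu R 1 i a c m)
    (H' : Mu R 1 j d f N) (hM : M i j = 6) : m * N * m * N * m * N = N * m * N * m * N * m := by
  obtain ⟨k, l, hk, hl, hkl, hk0, hl0⟩ : ∃ k l : ℤ, k = -A i j ∧ l = -A j i ∧ k * l = 3 ∧ 0 < k ∧ 0 < l := by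
    rcases h.rel i j hij with h1 | h1 | h1 | h1
    · omega
    · omega
    · omega
    · rcases h1.2 with ⟨h2, h3⟩ | ⟨h2, h3⟩
      · exact ⟨1, 3, by rw [h2]; rfl, by rw [h3]; rfl, by norm_num, by norm_num, by norm_num⟩
      · exact ⟨3, 1, by rw [h2]; rfl, by rw [h3]; rfl, by norm_num, by norm_num, by norm_num⟩
  obtain ⟨r1, r2, r3, r4, r5, r0⟩ := roots6 (cs := cs) (h := h) hk hl hkl
  have F1 : ∀ u v, rep cs h ((1 : W) * cs.simple i) (Ev i j u v) = Ev i j (-u + k * v) v := fun u v => by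
    rw [one_mul, rep_i h hk]
  have F2 : ∀ u v, rep cs h ((1 : W) * cs.simple i * cs.simple j) (Ev i j u v) = Ev i j (2 * u - k * v) (l * u - v) :=
    fun u v => by
      rw [rep_mul_apply, rep_j h hl, F1]
      exact Ev_congr i j (by linear_combination u * hkl) (by ring)
  have F3 : ∀ u v, rep cs h ((1 : W) * cs.simple i * cs.simple j * cs.simple i) (Ev i j u v) =
      Ev i j (-2 * u + k * v) (-l * u + 2 * v) := fun u v => by
    rw [rep_mul_apply, rep_i h hk, F2]
    exact Ev_congr i j (by ring) (by linear_combination v * hkl)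
  have F4 : ∀ u v, rep cs h ((1 : W) * cs.simple i * cs.simple j * cs.simple i * cs.simple j) (Ev i j u v) =
      Ev i j (u - k * v) (l * u - 2 * v) := fun u v => by
    rw [rep_mul_apply, rep_j h hl, F3]
    exact Ev_congr i j (by linear_combination u * hkl) (by ring)
  have F5 : ∀ u v, rep cs h ((1 : W) * cs.simple i * cs.simple j * cs.simple i * cs.simple j * cs.simple i)
      (Ev i j u v) = Ev i j (-u) (-l * u + v) := fun u v => by
    rw [rep_mul_apply, rep_i h hk, F4]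
    exact Ev_congr i j (by ring) (by linear_combination v * hkl)
  -- the roots of the words
  have g1 : rep cs h ((1 : W) * cs.simple i) (sr i) = Ev i j (-1) 0 := by
    rw [sr_i_eq i j, F1]; exact Ev_congr i j (by ring) (by ring)
  have g2 : rep cs h ((1 : W) * cs.simple i * cs.simple j) (sr i) = Ev i j 2 l := by
    rw [sr_i_eq i j, F2]; exact Ev_congr i j (by ring) (by ring)
  have g2' : rep cs h ((1 : W) * cs.simple i * cs.simple j) (sr j) = Ev i j (-k) (-1) := by
    rw [sr_j_eq i j, F2]; exact Ev_congr i j (by ring) (by ring)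
  have g3 : rep cs h ((1 : W) * cs.simple i * cs.simple j * cs.simple i) (sr j) = Ev i j k 2 := by
    rw [sr_j_eq i j, F3]; exact Ev_congr i j (by ring) (by ring)
  have g3' : rep cs h ((1 : W) * cs.simple i * cs.simple j * cs.simple i) (sr i) = Ev i j (-2) (-l) := by
    rw [sr_i_eq i j, F3]; exact Ev_congr i j (by ring) (by ring)
  have g4 : rep cs h ((1 : W) * cs.simple i * cs.simple j * cs.simple i * cs.simple j) (sr i) = Ev i j 1 l := by
    rw [sr_i_eq i j, F4]; exact Ev_congr i j (by ring) (by ring)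
  have g4' : rep cs h ((1 : W) * cs.simple i * cs.simple j * cs.simple i * cs.simple j) (sr j) = Ev i j (-k) (-2) := by
    rw [sr_j_eq i j, F4]; exact Ev_congr i j (by ring) (by ring)
  have g5 : rep cs h ((1 : W) * cs.simple i * cs.simple j * cs.simple i * cs.simple j * cs.simple i) (sr j) =
      Ev i j 0 1 := by
    rw [sr_j_eq i j, F5]; exact Ev_congr i j (by ring) (by ring)
  have hd : d ∈ X (Ev i j 0 1) := by
    have := H'.1; rwa [map_one, Module.End.one_apply, sr_j_eq i j] at this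
  have hc : c ∈ X (Ev i j (-1) 0) := by
    have := H.2.1
    rwa [map_one, Module.End.one_apply, sr_i_eq i j, Ev_neg, neg_zero] at this
  obtain ⟨x1, hx1, y, hy, e⟩ := start R hij H H' (by omega)
  obtain ⟨x2, hx2, x3, hx3, x4, hx4, ey⟩ := decomp3 R hij hk hl hkl hk0 hl0 hy
  have hM1 : M i j ≠ 2 := by omega
  have hM2 : M j i ≠ 2 := by rw [M.symmetric]; omega
  -- step 1
  obtain ⟨-, h2, h3, c', h4⟩ := step' R hij hM1 1 H H' hx1 hy e
  obtain ⟨c1, hc1⟩ : ∃ c1, c1 = m⁻¹ * f * m := ⟨_, rfl⟩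
  obtain ⟨m1, hm1⟩ : ∃ m1, m1 = m⁻¹ * N * m := ⟨_, rfl⟩
  rw [← hc1, ← hm1] at h3
  -- step 2
  have hy2 : x3 * x4 * d ∈ RGD.Sup X (S' cs h ((1 : W) * cs.simple i) j i) := by
    have hb : ∀ {s t : ℤ}, Btwn cs h (Ev i j 2 l) (Ev i j (-1) 0) (Ev i j s t) →
        Ev i j s t ∈ S' cs h ((1 : W) * cs.simple i) j i := fun {s t} hb => by
      change Btwn cs h _ _ _
      rwa [g2, g1]
    refine mul_mem (mul_mem (RGD.le_Sup (hb ?_) hx3) (RGD.le_Sup (hb ?_) hx4)) (RGD.le_Sup (hb ?_) hd)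
    · exact btwn_of_Ev r3 hl0 two_pos one_pos (by linear_combination hkl) (by ring)
    · exact btwn_of_Ev r4 one_pos one_pos one_pos (by ring) (by ring)
    · exact btwn_of_Ev r5 hl0 one_pos two_pos (by ring) (by ring)
  obtain ⟨-, h5, h6, c'', h7⟩ := step' R hij.symm hM2 (1 * cs.simple i) h3 h4 (x := x2) (y := x3 * x4 * d)
    (by rw [g2]; exact hx2) hy2 (by rw [h2, ey]; group)
  obtain ⟨c2, hc2⟩ : ∃ c2, c2 = m1⁻¹ * c' * m1 := ⟨_, rfl⟩
  obtain ⟨m2, hm2⟩ : ∃ m2, m2 = m1⁻¹ * m * m1 := ⟨_, rfl⟩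
  rw [← hc2, ← hm2] at h6
  have hc1' : c1 ∈ X (Ev i j (-k) (-1)) := by
    have := h7.1; rwa [g2'] at this
  -- step 3
  have hy3 : x4 * d * c ∈ RGD.Sup X (S' cs h ((1 : W) * cs.simple i * cs.simple j) i j) := by
    have hb : ∀ {s t : ℤ}, Btwn cs h (Ev i j k 2) (Ev i j (-k) (-1)) (Ev i j s t) →
        Ev i j s t ∈ S' cs h ((1 : W) * cs.simple i * cs.simple j) i j := fun {s t} hb => by
      change Btwn cs h _ _ _
      rwa [g3, g2']
    have r0' : IsRoot cs h (Ev i j (-1) 0) := by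
      have := r0.neg; rwa [Ev_neg, neg_zero] at this
    refine mul_mem (mul_mem (RGD.le_Sup (hb ?_) hx4) (RGD.le_Sup (hb ?_) hd)) (RGD.le_Sup (hb ?_) hc)
    · exact btwn_of_Ev r4 hk0 two_pos one_pos (by ring) (by linear_combination hkl)
    · exact btwn_of_Ev r5 one_pos one_pos one_pos (by ring) (by ring)
    · exact btwn_of_Ev r0' hk0 one_pos two_pos (by ring) (by ring)
  obtain ⟨-, h8, h9, c''', h10⟩ := step' R hij hM1 (1 * cs.simple i * cs.simple j) h6 h7 (x := x3) (y := x4 * d * c)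
    (by rw [g3]; exact hx3) hy3 (by rw [h5]; group)
  obtain ⟨c3, hc3⟩ : ∃ c3, c3 = m2⁻¹ * c'' * m2 := ⟨_, rfl⟩
  obtain ⟨m3, hm3⟩ : ∃ m3, m3 = m2⁻¹ * m1 * m2 := ⟨_, rfl⟩
  rw [← hc3, ← hm3] at h9
  have hc2' : c2 ∈ X (Ev i j (-2) (-l)) := by
    have := h10.1; rwa [g3'] at this
  -- step 4
  have r0' : IsRoot cs h (Ev i j (-1) 0) := by
    have := r0.neg; rwa [Ev_neg, neg_zero] at this
  have r1' : IsRoot cs h (Ev i j (-k) (-1)) := by
    have := r1.neg; rwa [Ev_neg] at this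
  have r2' : IsRoot cs h (Ev i j (-2) (-l)) := by
    have := r2.neg; rwa [Ev_neg] at this
  have hy4 : d * c * c1 ∈ RGD.Sup X (S' cs h ((1 : W) * cs.simple i * cs.simple j * cs.simple i) j i) := by
    have hb : ∀ {s t : ℤ}, Btwn cs h (Ev i j 1 l) (Ev i j (-2) (-l)) (Ev i j s t) →
        Ev i j s t ∈ S' cs h ((1 : W) * cs.simple i * cs.simple j * cs.simple i) j i := fun {s t} hb => by
      change Btwn cs h _ _ _
      rwa [g4, g3']
    refine mul_mem (mul_mem (RGD.le_Sup (hb ?_) hd) (RGD.le_Sup (hb ?_) hc)) (RGD.le_Sup (hb ?_) hc1')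
    · exact btwn_of_Ev r5 hl0 two_pos one_pos (by ring) (by ring)
    · exact btwn_of_Ev r0' one_pos one_pos one_pos (by ring) (by ring)
    · exact btwn_of_Ev r1' hl0 one_pos two_pos (by linear_combination -hkl) (by ring)
  obtain ⟨-, h11, h12, c4', h13⟩ := step' R hij.symm hM2 (1 * cs.simple i * cs.simple j * cs.simple i) h9 h10 (x := x4)
    (y := d * c * c1) (by rw [g4]; exact hx4) hy4 (by rw [h8]; group)
  obtain ⟨c4, hc4⟩ : ∃ c4, c4 = m3⁻¹ * c''' * m3 := ⟨_, rfl⟩
  obtain ⟨m4, hm4⟩ : ∃ m4, m4 = m3⁻¹ * m2 * m3 := ⟨_, rfl⟩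
  rw [← hc4, ← hm4] at h12
  -- step 5
  have hy5 : c * c1 * c2 ∈
      RGD.Sup X (S' cs h ((1 : W) * cs.simple i * cs.simple j * cs.simple i * cs.simple j) i j) := by
    have hb : ∀ {s t : ℤ}, Btwn cs h (Ev i j 0 1) (Ev i j (-k) (-2)) (Ev i j s t) →
        Ev i j s t ∈ S' cs h ((1 : W) * cs.simple i * cs.simple j * cs.simple i * cs.simple j) i j := fun {s t} hb => by
      change Btwn cs h _ _ _
      rwa [g5, g4']
    refine mul_mem (mul_mem (RGD.le_Sup (hb ?_) hc) (RGD.le_Sup (hb ?_) hc1')) (RGD.le_Sup (hb ?_) hc2')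
    · exact btwn_of_Ev r0' hk0 two_pos one_pos (by ring) (by ring)
    · exact btwn_of_Ev r1' one_pos one_pos one_pos (by ring) (by ring)
    · exact btwn_of_Ev r2' hk0 one_pos two_pos (by ring) (by linear_combination -hkl)
  obtain ⟨-, -, h14, -⟩ := step' R hij hM1 (1 * cs.simple i * cs.simple j * cs.simple i * cs.simple j) h12 h13 (x := d)
    (y := c * c1 * c2) (by rw [g5]; exact hd) hy5 (by rw [h11]; group)
  have h15 := H'.uniq' R h14 (by rw [g5, map_one, Module.End.one_apply, sr_j_eq i j])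
  exact six_aux hm1 hm2 hm3 hm4 h15

/-- **pinnings, without any hypothesis** -/
theorem exists_pin_all [Finite W] (R : RGD cs h p T n X) {e : I → Y} (he : ∀ i, e i ∈ X (sr i)) (hne : ∀ i, e i ≠ 1) :
    ∃ n' : I → Y, RGD cs h p T n' X ∧ Cfsg.Agent.H92.GG.Pin cs h n' X Set.univ e := by
  choose c m hm using fun i => exists_mu R i (he i) (hne i)
  refine ⟨m, rgd_chn R fun i => ?_, ⟨fun i _ => he i, fun i _ => ?_, fun i j hij _ => ?_⟩⟩
  · have := (hm i).2.2.1
    rwa [one_mul, inv_one, mul_one] at this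
  · obtain ⟨h1, h2, -, b, h3, h4⟩ := hm i
    rw [map_one, Module.End.one_apply] at h2 h3
    exact ⟨b, h3, c i, h2, h4⟩
  · rcases h.rel i j hij with h1 | h1 | h1 | h1
    · rw [h1.1]
      simp only [Cfsg.Agent.ParSys.alt, List.map_cons, List.map_nil, List.prod_cons, List.prod_nil, mul_one]
      exact braid2 R hij (hm i) (hm j) h1.1
    · rw [h1.1]
      simp only [Cfsg.Agent.ParSys.alt, List.map_cons, List.map_nil, List.prod_cons, List.prod_nil, mul_one]
      rw [← mul_assoc, ← mul_assoc]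
      exact braid3 R hij (hm i) (hm j) h1.1
    · rw [h1.1]
      simp only [Cfsg.Agent.ParSys.alt, List.map_cons, List.map_nil, List.prod_cons, List.prod_nil, mul_one]
      rw [← mul_assoc, ← mul_assoc, ← mul_assoc, ← mul_assoc]
      exact braid4 R hij (hm i) (hm j) h1.1
    · rw [h1.1]
      simp only [Cfsg.Agent.ParSys.alt, List.map_cons, List.map_nil, List.prod_cons, List.prod_nil, mul_one]
      have := braid6 R hij (hm i) (hm j) h1.1
      simp only [mul_assoc] at this ⊢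
      exact this

section Mult

open Cfsg.Agent.Characters Cfsg.Agent.H53.HC Cfsg.Agent.H641.Gow Cfsg.Agent.H148.GG
  Cfsg.Agent.Nodes.StabComb Cfsg.Agent.Nodes.Bruhat Cfsg.Agent.Nodes.LeviDec

variable [Finite W] (R : RGD cs h p T n X) {F : I → Type*} [∀ i, Field (F i)] [∀ i, Finite (F i)] (D : Adj T X F)
  [hp : Fact p.Prime] {φ : Y → Y} (hφ : Cfsg.Agent.H92.GG.Anti cs h T X φ)

include R D hφ

/-- **Multiplicity one from a root group datum (every type), coordinates and an anti-automorphism.** -/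
theorem multOne_gen_all [Finite Y]
    (hE : ∀ i, ∃ (e : Y) (he : e ∈ X (sr i)), D.x i ⟨e, he⟩ = Multiplicative.ofAdd 1 ∧ InvE D i e)
    (hU : ∀ i (e e' : Y) (he : e ∈ X (sr i)) (he' : e' ∈ X (sr i)), D.x i ⟨e, he⟩ = D.x i ⟨e', he'⟩ →
      InvE D i e → InvE D i e' → e = e') : Cfsg.Agent.H743.GG.MultOne cs h T X := by
  classical
  choose e he hx hI using hE
  have hne : ∀ i, e i ≠ 1 := by
    intro i h1
    have h2 : (⟨e i, he i⟩ : ↥(X (sr i))) = 1 := Subtype.ext h1
    have h3 := hx i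
    rw [h2, map_one] at h3
    exact zero_ne_one (α := F i) (congrArg Multiplicative.toAdd h3)
  obtain ⟨n', R', P⟩ := exists_pin_all R he hne
  obtain ⟨ψ, hψ, hval⟩ := exists_psi R' D
  refine Cfsg.Agent.H743.GG.multOne_pin R' D hφ P hψ ?_
  intro i _ j _ w g _ hg hw hψg
  have hCi : CharP (F i) p := charP_F R' D i
  have hCj : CharP (F j) p := charP_F R' D j
  obtain ⟨σ, c, hc, hs⟩ := semi R' D hφ hg hw
  have hUJ : ∀ (k : I) (u : Y), u ∈ X (sr k) → u ∈ UJ cs h X Set.univ := fun k u hu =>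
    RGD.le_Sup (S := PosJ cs h Set.univ) (sr_mem_PosJ (Set.mem_univ k)) hu
  have h1 : c = 1 := by
    refine scalar_eq_one (zc_ne_one p (F j)) fun s => ?_
    obtain ⟨u, hu⟩ := D.surjX i (Multiplicative.ofAdd (σ.symm s))
    have h2 := hψg u u.2
    rw [Cfsg.Agent.H92.GG.ext_of_mem ψ (hUJ i u u.2),
      Cfsg.Agent.H92.GG.ext_of_mem ψ (hUJ j _ (beta_mem R' hφ hg hw u.2))] at h2
    have h3 := congrArg (fun z : ℂˣ => (z : ℂ)) h2
    rw [hval i u u.2, hval j _ (beta_mem R' hφ hg hw u.2), hs u u.2 (beta_mem R' hφ hg hw u.2)] at h3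
    have h4 : Multiplicative.toAdd (D.x i ⟨(u : Y), u.2⟩) = σ.symm s := by
      have : (⟨(u : Y), u.2⟩ : ↥(X (sr i))) = u := rfl
      rw [this, hu]; rfl
    rw [h4, RingEquiv.apply_symm_apply, ← zc_iso p (F i) σ, RingEquiv.apply_symm_apply] at h3
    exact h3
  have hm := beta_mem R' hφ hg hw (he i)
  refine hU j _ _ hm (he j) ?_ (InvE.beta R' D hφ hg hw (hI i)) (hI j)
  have h2 := hs (e i) (he i) hm
  rw [hx i, h1, toAdd_ofAdd, map_one, mul_one] at h2
  rw [hx j]
  exact congrArg Multiplicative.ofAdd h2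

/-- **The same if the simple root groups are the additive groups of the fields.** -/
theorem multOne_all [Finite Y] (hinj : ∀ i, Function.Injective (D.x i)) :
    Cfsg.Agent.H743.GG.MultOne cs h T X := by
  have hconj : ∀ (k : I) (s : Y), s ∈ T → ∀ u ∈ X (sr k), s * u * s⁻¹ ∈ X (sr k) := by
    intro k s hsT u hu
    have := R.tor _ (isRoot_sr cs h k) s hsT
    rw [← this]
    exact conj_mem_cj.2 hu
  refine multOne_gen_all R D hφ (fun i => ?_) fun i e e' he he' hee _ _ => congrArg Subtype.val (hinj i hee)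
  obtain ⟨u, hu⟩ := D.surjX i (Multiplicative.ofAdd 1)
  refine ⟨u, u.2, hu, fun t ht => ?_⟩
  have h1 := D.act i t u (hconj i t t.2 u u.2)
  rw [ht, neg_one_mul] at h1
  have h2 : (⟨(t : Y) * (u : Y) * (t : Y)⁻¹, hconj i t t.2 u u.2⟩ : ↥(X (sr i))) = u⁻¹ := by
    apply hinj i
    rw [map_inv]
    exact h1
  exact congrArg Subtype.val h2

end Mult

end Cfsg.Agent.H992.MU
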