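import Cfsg.Agent.H992.MU.Step

/-!
# The exact braid relations of length three and four of the `μ`-elements (helper992)
-/

set_option autoImplicit false
set_option linter.unusedSectionVars false

namespace Cfsg.Agent.H992.MU

open CoxeterSystem Cfsg.Agent.ChevalleyStructure.CoxeterGeom Cfsg.Agent.Tits.Roots Cfsg.Agent.Tits.Core
  Cfsg.Agent.Tits.Exchange Cfsg.Agent.Nodes.Reps Cfsg.Agent.Nodes.BNOf Cfsg.Agent.Nodes.OppDec
  Cfsg.Agent.Nodes.MuSq
open scoped commutatorElement

variable {I W Y : Type*} [Fintype I] [DecidableEq I] [Group W] [Group Y] {M : CoxeterMatrix I}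
  {cs : CoxeterSystem M W} {A : I → I → ℤ} {h : IsCartan M A} {p : ℕ} {T : Subgroup Y} {n : I → Y}
  {X : (I → ℤ) → Subgroup Y}

theorem refl_eq {w w' : W} {i i' : I} (e : rep cs h w' (sr i') = rep cs h w (sr i)) :
    w' * cs.simple i' * w'⁻¹ = w * cs.simple i * w⁻¹ := by
  have h1 : rep cs h (w'⁻¹ * w) (sr i) = sr i' := by
    rw [rep_mul_apply, ← e, rep_inv_apply]
  have h2 := Cfsg.Agent.H92.GG.conj_simple h1
  calc w' * cs.simple i' * w'⁻¹ = w' * (cs.simple i' * (w'⁻¹ * w)) * w⁻¹ := by group
    _ = w' * (w'⁻¹ * w * cs.simple i) * w⁻¹ := by rw [h2]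
    _ = _ := by group

variable (R : RGD cs h p T n X)

include R

theorem Mu.uniq' [Finite W] {w w' : W} {i i' : I} {a c m c' m' : Y} (H : Mu R w i a c m) (H' : Mu R w' i' a c' m')
    (e1 : rep cs h w' (sr i') = rep cs h w (sr i)) : m' = m := H.uniq R H' e1 (refl_eq e1)

section

variable [Finite W] {i j : I} (hij : i ≠ j) {a c m d f N : Y} (H : Mu R 1 i a c m) (H' : Mu R 1 j d f N)

include hij H H'

theorem start (hM : M i j ≠ 2) : ∃ x ∈ X (rep cs h ((1 : W) * cs.simple i) (sr j)), ∃ y ∈ RGD.Sup X (S' cs h 1 i j),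
    a⁻¹ * d * a = x * y * d := by
  obtain ⟨x, hx, y, hy, e⟩ := exists_decomp R hij hM 1 (comm_S R hij 1 (inv_mem H.1) H'.1)
  refine ⟨x, hx, y, hy, ?_⟩
  rw [← e, commutatorElement_def]
  group

theorem braid2 (hM : M i j = 2) : m * N = N * m := by
  have := Fintype.ofFinite W
  have hA : A i j = 0 ∧ A j i = 0 := by
    rcases h.rel i j hij with h1 | h1 | h1 | h1
    · exact h1.2
    all_goals omega
  have h1 : ∀ z, ¬ Btwn cs h (sr i) (sr j) z := by
    rintro z ⟨hz, m', a', b', hm, ha, hb, e⟩
    have hs := congrArg (rep cs h (cs.simple i)) e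
    rw [map_add, map_smul, map_smul, map_smul, rep_simple_sr, si_sj h, hA.1, neg_zero, zero_smul, add_zero] at hs
    have hi := congrFun hs i
    have hj := congrFun hs j
    simp only [Pi.add_apply, Pi.smul_apply, smul_eq_mul, Pi.neg_apply, sr_self, sr_ne hij, sr_ne hij.symm] at hi hj
    rcases (hz.act (cs.simple i)).pos_or_neg with h0 | h0
    · have h3 : 0 ≤ rep cs h (cs.simple i) z i := h0 i
      nlinarith
    · have h3 : rep cs h (cs.simple i) z j ≤ 0 := h0 j
      nlinarith
  have hne : ∀ {x y : I → ℤ}, x i = 0 → y i ≠ 0 → x ≠ y := fun hx hy e => hy (by rw [← e]; exact hx)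
  have hc : ∀ u ∈ X (sr i), ∀ v ∈ X (sr j), u * v = v * u := fun u hu v hv =>
    comm_one R (isRoot_sr cs h i) (isRoot_sr cs h j) (fun e => by
      have := congrFun e i; rw [sr_self, sr_ne hij] at this; exact one_ne_zero this)
      (fun e => by have := congrFun e i; rw [Pi.neg_apply, sr_self, sr_ne hij, neg_zero] at this; exact one_ne_zero this)
      h1 hu hv
  have hc1 : ∀ u ∈ X (-sr i), ∀ v ∈ X (sr j), u * v = v * u := fun u hu v hv => by
    refine comm_neg R hij 1 ?_ ?_
    · rw [map_one]; exact hu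
    · rw [map_one]; exact hv
  obtain ⟨ha, hc0, hm, b, hb, e⟩ := H
  rw [map_one, Module.End.one_apply] at ha hc0 hb
  have hmv : ∀ v ∈ X (sr j), m * v = v * m := fun v hv => by
    rw [e]
    calc b * a * c * v = b * a * (c * v) := by group
      _ = b * (a * v) * c := by rw [hc1 c hc0 v hv]; group
      _ = (b * v) * a * c := by rw [hc a ha v hv]; group
      _ = v * (b * a * c) := by rw [hc1 b hb v hv]; group
  -- `m` commutes with `d` and with the root group `X (-α_j)`
  have h2 : Mu R 1 j d (m * f * m⁻¹) (m * N * m⁻¹) := by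
    have h3 := H'.cj R hm
    rw [one_mul, inv_one, mul_one, mul_one, hmv d (by have := H'.1; rwa [map_one, Module.End.one_apply] at this),
      mul_inv_cancel_right] at h3
    obtain ⟨k1, k2, k3, b', k4, k5⟩ := h3
    have e3 : rep cs h (cs.simple i) (sr j) = sr j := by
      rw [si_sj h, hA.1, neg_zero, zero_smul, add_zero]
    have e4 : cs.simple i * cs.simple j * (cs.simple i)⁻¹ = cs.simple j := by
      rw [Cfsg.Agent.H92.GG.conj_simple e3, mul_inv_cancel_right]
    refine ⟨by rw [map_one, Module.End.one_apply]; rwa [e3] at k1, by rw [map_one, Module.End.one_apply]; rwa [e3] at k2,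
      ?_, b', by rw [map_one, Module.End.one_apply]; rwa [e3] at k4, k5⟩
    rw [one_mul, inv_one, mul_one]
    rwa [e4] at k3
  have h3 := H'.uniq' R h2 rfl
  calc m * N = m * N * m⁻¹ * m := by group
    _ = N * m := by rw [h3]

theorem braid3 (hM : M i j = 3) : m * N * m = N * m * N := by
  have hA : A i j = -1 ∧ A j i = -1 := by
    rcases h.rel i j hij with h1 | h1 | h1 | h1
    · omega
    · exact h1.2
    all_goals omega
  obtain ⟨x, hx, y, hy, e⟩ := start R hij H H' (by omega)
  have hy1 : y = 1 := by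
    have h1 : RGD.Sup X (S' cs h 1 i j) ≤ ⊥ := by
      refine RGD.Sup_le fun z hz => ?_
      exfalso
      obtain ⟨hz, m', a', b', hm, ha, hb, e1⟩ := hz
      rw [one_mul, map_one, Module.End.one_apply, si_sj h, hA.1] at e1
      have hs := congrArg (rep cs h (cs.simple j)) e1
      rw [map_add, map_smul, map_smul, map_smul, rep_simple_sr, map_add, map_smul, rep_simple_sr, si_sj h, hA.2] at hs
      have hi := congrFun hs i
      have hj := congrFun hs j
      simp only [Pi.add_apply, Pi.smul_apply, smul_eq_mul, Pi.neg_apply, sr_self, sr_ne hij, sr_ne hij.symm] at hi hj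
      rcases (hz.act (cs.simple j)).pos_or_neg with h0 | h0
      · have h3 : 0 ≤ rep cs h (cs.simple j) z j := h0 j
        nlinarith
      · have h3 : rep cs h (cs.simple j) z i ≤ 0 := h0 i
        nlinarith
    exact Subgroup.mem_bot.1 (h1 hy)
  obtain ⟨-, h2, h3, c', h4⟩ := step' R hij (by omega) 1 H H' hx hy e
  rw [hy1, one_mul] at h2
  have er : rep cs h ((1 : W) * cs.simple i * cs.simple j) (sr i) = sr j := by
    rw [one_mul, rep_mul_apply, si_sj h, hA.2, map_add, map_smul, rep_simple_sr, si_sj h, hA.1]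
    funext l
    simp only [Pi.add_apply, Pi.smul_apply, smul_eq_mul, Pi.neg_apply]
    ring
  have hd : d ∈ X (sr j) := by have := H'.1; rwa [map_one, Module.End.one_apply] at this
  obtain ⟨-, -, h5, -⟩ := step' R hij.symm (by rw [M.symmetric]; omega) (1 * cs.simple i) h3 h4 (x := d) (y := 1)
    (by rw [er]; exact hd) (one_mem _) (by rw [h2, mul_one])
  have h6 := H'.uniq' R h5 (by rw [er, map_one, Module.End.one_apply])
  calc m * N * m = N * m * ((m⁻¹ * N * m)⁻¹ * m * (m⁻¹ * N * m)) := by group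
    _ = N * m * N := by rw [h6]

theorem braid4 (hM : M i j = 4) : m * N * m * N = N * m * N * m := by
  obtain ⟨k, l, hk, hl, hkl, hk0, hl0⟩ : ∃ k l : ℤ, k = -A i j ∧ l = -A j i ∧ k * l = 2 ∧ 0 < k ∧ 0 < l := by
    rcases h.rel i j hij with h1 | h1 | h1 | h1
    · omega
    · omega
    · rcases h1.2 with ⟨h2, h3⟩ | ⟨h2, h3⟩
      · exact ⟨1, 2, by rw [h2]; rfl, by rw [h3]; rfl, by norm_num, by norm_num, by norm_num⟩
      · exact ⟨2, 1, by rw [h2]; rfl, by rw [h3]; rfl, by norm_num, by norm_num, by norm_num⟩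
    · omega
  have eij : rep cs h (cs.simple i) (sr j) = sr j + k • sr i := by rw [si_sj h, hk]
  have eji : rep cs h (cs.simple j) (sr i) = sr i + l • sr j := by rw [si_sj h, hl]
  -- `β₃`
  have e3 : rep cs h ((1 : W) * cs.simple i * cs.simple j) (sr i) = sr i + l • sr j := by
    rw [one_mul, rep_mul_apply, eji, map_add, map_smul, rep_simple_sr, eij]
    have h1 : k * l = 2 := hkl
    funext z
    simp only [Pi.add_apply, Pi.smul_apply, smul_eq_mul, Pi.neg_apply]
    linear_combination sr i z * h1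
  have e4 : rep cs h ((1 : W) * cs.simple i * cs.simple j * cs.simple i) (sr j) = sr j := by
    rw [rep_mul_apply, eij, map_add, map_smul, e3, one_mul, rep_mul_apply, rep_simple_sr, map_neg, eij]
    have h1 : k * l = 2 := hkl
    funext z
    simp only [Pi.add_apply, Pi.smul_apply, smul_eq_mul, Pi.neg_apply]
    linear_combination sr j z * h1
  have hd : d ∈ X (sr j) := by have := H'.1; rwa [map_one, Module.End.one_apply] at this
  obtain ⟨x, hx, y, hy, e⟩ := start R hij H H' (by omega)
  have hy1 : y ∈ X (rep cs h ((1 : W) * cs.simple i * cs.simple j) (sr i)) := by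
    refine (RGD.Sup_le fun z hz => ?_ : RGD.Sup X (S' cs h 1 i j) ≤ _) hy
    suffices hs : z = rep cs h ((1 : W) * cs.simple i * cs.simple j) (sr i) by rw [hs]
    obtain ⟨hz, m', a', b', hm, ha, hb, e1⟩ := hz
    rw [one_mul, map_one, Module.End.one_apply, eij] at e1
    have hs := congrArg (rep cs h (cs.simple j)) e1
    rw [map_add, map_smul, map_smul, map_smul, rep_simple_sr, map_add, map_smul, rep_simple_sr, eji] at hs
    have hi := congrFun hs i
    have hj := congrFun hs j
    simp only [Pi.add_apply, Pi.smul_apply, smul_eq_mul, Pi.neg_apply, sr_self, sr_ne hij, sr_ne hij.symm] at hi hj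
    have hr := hz.act (cs.simple j)
    have h0 : 0 ≤ rep cs h (cs.simple j) z := by
      rcases hr.pos_or_neg with h0 | h0
      · exact h0
      · have h3 : rep cs h (cs.simple j) z i ≤ 0 := h0 i
        nlinarith [mul_pos ha hk0]
    have hab : 0 ≤ a' - b' := by
      have h3 : 0 ≤ rep cs h (cs.simple j) z j := h0 j
      have h4 : m' * rep cs h (cs.simple j) z j = a' * (k * l - 1) - b' := by rw [hj]; ring
      rw [hkl] at h4
      nlinarith
    have ht := congrArg (rep cs h (cs.simple i)) hs
    simp only [map_add, map_smul, map_neg, rep_simple_sr, eij] at ht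
    have hti := congrFun ht i
    have htj := congrFun ht j
    simp only [Pi.add_apply, Pi.smul_apply, smul_eq_mul, Pi.neg_apply, sr_self, sr_ne hij, sr_ne hij.symm] at hti htj
    have hr' := hr.act (cs.simple i)
    have h5 : m' * rep cs h (cs.simple i) (rep cs h (cs.simple j) z) i = -(k * b') := by
      rw [hti]
      linear_combination (a' * k) * hkl
    have h6 : m' * rep cs h (cs.simple i) (rep cs h (cs.simple j) z) j = a' - b' := by
      rw [htj]
      linear_combination a' * hkl
    have h7 : rep cs h (cs.simple i) (rep cs h (cs.simple j) z) ≤ 0 := by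
      rcases hr'.pos_or_neg with h7 | h7
      · exfalso
        have h8 := h7 i
        rw [Pi.zero_apply] at h8
        nlinarith [mul_pos hk0 hb]
      · exact h7
    have h8 : rep cs h (cs.simple i) (rep cs h (cs.simple j) z) j = 0 := by
      have h9 := h7 j
      rw [Pi.zero_apply] at h9
      nlinarith
    have h9 : -rep cs h (cs.simple i) (rep cs h (cs.simple j) z) = sr i := by
      refine hr'.neg.eq_sr (neg_nonneg.2 h7) i fun q hq => ?_
      by_cases hqj : q = j
      · rw [hqj, Pi.neg_apply, h8, neg_zero]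
      · have h10 := congrFun ht q
        simp only [Pi.add_apply, Pi.smul_apply, smul_eq_mul, Pi.neg_apply, sr_ne hq, sr_ne hqj] at h10
        have h11 : m' * rep cs h (cs.simple i) (rep cs h (cs.simple j) z) q = 0 := by rw [h10]; ring
        rcases mul_eq_zero.1 h11 with h12 | h12
        · omega
        · rw [Pi.neg_apply, h12, neg_zero]
    have h10 : rep cs h (cs.simple i) (rep cs h (cs.simple j) z) = -sr i := by rw [← h9, neg_neg]
    have h11 := congrArg (rep cs h (cs.simple i)) h10
    rw [← rep_mul_apply, cs.simple_mul_simple_self, map_one, Module.End.one_apply, map_neg, rep_simple_sr,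
      neg_neg] at h11
    have h12 := congrArg (rep cs h (cs.simple j)) h11
    rw [← rep_mul_apply, cs.simple_mul_simple_self, map_one, Module.End.one_apply, eji] at h12
    rw [h12, e3]
  -- the second step
  obtain ⟨-, h2, h3, c', h4⟩ := step' R hij (by omega) 1 H H' hx hy e
  have hd2 : d ∈ RGD.Sup X (S' cs h ((1 : W) * cs.simple i) j i) := by
    refine RGD.le_Sup (z := sr j) ?_ hd
    refine ⟨isRoot_sr cs h j, l, 1, 1, hl0, one_pos, one_pos, ?_⟩
    rw [e3, one_mul, rep_simple_sr]
    funext z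
    simp only [Pi.add_apply, Pi.smul_apply, smul_eq_mul, Pi.neg_apply]
    ring
  obtain ⟨-, h5, h6, c'', h7⟩ := step' R hij.symm (by rw [M.symmetric]; omega) (1 * cs.simple i) h3 h4 hy1 hd2 h2
  -- the third step
  have hc2 : c ∈ RGD.Sup X (S' cs h ((1 : W) * cs.simple i * cs.simple j) i j) := by
    have hc0 : c ∈ X (-sr i) := by have := H.2.1; rwa [map_one, Module.End.one_apply] at this
    refine RGD.le_Sup (z := -sr i) ?_ hc0
    refine ⟨(isRoot_sr cs h i).neg, k, 1, 1, hk0, one_pos, one_pos, ?_⟩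
    rw [e4, one_mul, rep_mul_apply, rep_simple_sr, map_neg, eij]
    funext z
    simp only [Pi.add_apply, Pi.smul_apply, smul_eq_mul, Pi.neg_apply]
    ring
  obtain ⟨-, -, h8, -⟩ := step' R hij (by omega) (1 * cs.simple i * cs.simple j) h6 h7 (x := d) (y := c)
    (by rw [e4]; exact hd) hc2 h5
  have h9 := H'.uniq' R h8 (by rw [e4, map_one, Module.End.one_apply])
  obtain ⟨P, hP⟩ : ∃ P, P = N * m := ⟨_, rfl⟩
  -- `M₂ = m⁻¹ N m`, `M₃ = M₂⁻¹ m M₂`, `N = M₃⁻¹ M₂ M₃`
  obtain ⟨m2, hm2⟩ : ∃ m2, m2 = m⁻¹ * N * m := ⟨_, rfl⟩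
  rw [← hm2] at h9
  have e5 : m * m2 = N * m := by rw [hm2]; group
  have e6 : m2 * (m2⁻¹ * m * m2) = N * m := by rw [← e5]; group
  have e7 : m2⁻¹ * m * m2 * N = N * m := by
    rw [← e6]
    calc m2⁻¹ * m * m2 * N = m2⁻¹ * m * m2 * ((m2⁻¹ * m * m2)⁻¹ * m2 * (m2⁻¹ * m * m2)) := by rw [h9]
      _ = _ := by group
  have e8 : m2⁻¹ * (N * m) * N = N * m := by
    rw [← e5]
    rw [← e5] at e7
    calc m2⁻¹ * (m * m2) * N = m2⁻¹ * m * m2 * N := by group
      _ = _ := e7
  have e9 : N * m * N = m2 * (N * m) := by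
    calc N * m * N = m2 * (m2⁻¹ * (N * m) * N) := by group
      _ = _ := by rw [e8]
  calc m * N * m * N = m * (N * m * N) := by group
    _ = (m * m2) * (N * m) := by rw [e9]; group
    _ = N * m * N * m := by rw [e5]; group

end

end Cfsg.Agent.H992.MU
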