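import Cfsg.Agent.H992.MU.Pin

/-!
# `MultOne` for every root group datum with `Adj` and an anti-automorphism, every characteristic (helper992)

* `exists_psi` : the standard nondegenerate character;
* `multOne_gen`, `multOne` : **the Gelfand-Graev characters of all Levi subgroups are multiplicity free.**
-/

set_option autoImplicit false
set_option linter.unusedSectionVars false

namespace Cfsg.Agent.H992.MU

open Cfsg.Agent.Characters
open Cfsg.Agent.H53.HC Cfsg.Agent.H641.Gow Cfsg.Agent.H148.GG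

open CoxeterSystem Cfsg.Agent.ChevalleyStructure.CoxeterGeom Cfsg.Agent.Tits.Roots Cfsg.Agent.Tits.Core
  Cfsg.Agent.Tits.Exchange Cfsg.Agent.Nodes.Reps Cfsg.Agent.Nodes.BNOf Cfsg.Agent.Nodes.StabComb
  Cfsg.Agent.Nodes.Bruhat Cfsg.Agent.Nodes.OppDec Cfsg.Agent.Nodes.LeviDec

variable {I W Y : Type*} [Fintype I] [DecidableEq I] [Group W] [Group Y] {M : CoxeterMatrix I}
  {cs : CoxeterSystem M W} {A : I → I → ℤ} {h : IsCartan M A} {p : ℕ} {T : Subgroup Y} {n : I → Y}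
  {X : (I → ℤ) → Subgroup Y}

/-! ### The standard nondegenerate character -/

/-- the canonical additive character as a homomorphism -/
noncomputable def zm (p : ℕ) [hp : Fact p.Prime] (K : Type*) [Field K] [Finite K] [CharP K p] : Multiplicative K →* ℂ where
  toFun := fun s => zc p K (Multiplicative.toAdd s)
  map_one' := by rw [toAdd_one, AddChar.map_zero_eq_one]
  map_mul' := fun s t => by rw [toAdd_mul, AddChar.map_add_eq_mul]

section Psi

open Cfsg.Agent.H40.OC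

variable [Finite W] (R : RGD cs h p T n X) {F : I → Type*} [∀ i, Field (F i)] [∀ i, Finite (F i)] (D : Adj T X F)
  [hp : Fact p.Prime]

include R D

/-- the standard nondegenerate linear character -/
theorem exists_psi : ∃ ψ : ↥(UJ cs h X Set.univ) →* ℂˣ, Nd cs h X Set.univ ψ ∧
    ∀ (i : I) [CharP (F i) p] (u : Y) (hu : u ∈ X (sr i)) (hu' : u ∈ UJ cs h X Set.univ),
      (ψ ⟨u, hu'⟩ : ℂ) = zc p (F i) (Multiplicative.toAdd (D.x i ⟨u, hu⟩)) := by
  classical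
  have hC : ∀ i, CharP (F i) p := fun i => charP_F R D i
  obtain ⟨lam, hlam⟩ : ∃ lam : I → (↥(UU cs h X) →* ℂˣ),
      ∀ i u, ((lam i u : ℂˣ) : ℂ) = zc p (F i) (Multiplicative.toAdd (co R D i u)) :=
    ⟨fun i => ((zm p (F i)).toHomUnits).comp (co R D i), fun i u => rfl⟩
  have hone : ∀ i u, co R D i u = 1 → lam i u = 1 := fun i u hu => by
    apply Units.ext
    rw [hlam, hu, toAdd_one, AddChar.map_zero_eq_one]
    rfl
  have hval : ∀ (i : I) (u : Y) (hu : u ∈ X (sr i)) (hu' : u ∈ UJ cs h X Set.univ),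
      ((((∏ i, lam i).comp (Subgroup.inclusion (Cfsg.Agent.Nodes.Bruhat.UJ_le_U Set.univ))) ⟨u, hu'⟩ : ℂˣ) : ℂ) =
        zc p (F i) (Multiplicative.toAdd (D.x i ⟨u, hu⟩)) := by
    intro i u hu hu'
    rw [MonoidHom.comp_apply, MonoidHom.finsetProd_apply, Finset.prod_eq_single i, hlam, co_apply]
    · have h1 := Cfsg.Agent.Nodes.Bruhat.UJ_le_U Set.univ hu'
      have h2 := cor_X R i hu h1
      have h3 : cor R i (Subgroup.inclusion (Cfsg.Agent.Nodes.Bruhat.UJ_le_U Set.univ) ⟨u, hu'⟩) = ⟨u, hu⟩ := h2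
      rw [h3]
    · intro k _ hk
      refine hone k _ ?_
      exact co_ne R D hk hu _
    · intro hc
      exact absurd (Finset.mem_univ i) hc
  refine ⟨(∏ i, lam i).comp (Subgroup.inclusion (Cfsg.Agent.Nodes.Bruhat.UJ_le_U Set.univ)), ⟨?_, ?_⟩, ?_⟩
  · intro x hx hxs u hu' hu
    rw [MonoidHom.comp_apply, MonoidHom.finsetProd_apply]
    refine Finset.prod_eq_one fun i _ => ?_
    have h1 := Cfsg.Agent.Nodes.Bruhat.UJ_le_U Set.univ hu'
    refine hone i _ ?_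
    rw [co_apply]
    have h2 : cor R i (Subgroup.inclusion (Cfsg.Agent.Nodes.Bruhat.UJ_le_U Set.univ) ⟨u, hu'⟩) = 1 :=
      cor_V R i (RGD.le_Sup (S := RGD.PosNe cs h i) ⟨hx.1, hx.2.1, hxs i⟩ hu) h1
    rw [h2, map_one]
  · intro i _
    obtain ⟨s, hs⟩ : ∃ s, zc p (F i) s ≠ 1 := by
      by_contra hcon
      push Not at hcon
      exact zc_ne_one p (F i) (DFunLike.ext _ _ fun s => by rw [hcon s]; rfl)
    obtain ⟨v, hv⟩ := D.surjX i (Multiplicative.ofAdd s)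
    have h2 : (v : Y) ∈ UJ cs h X Set.univ :=
      RGD.le_Sup (S := PosJ cs h Set.univ) (sr_mem_PosJ (Set.mem_univ i)) v.2
    refine ⟨v, h2, v.2, fun hc => hs ?_⟩
    have h3 := hval i v v.2 h2
    rw [hc] at h3
    have h4 : (⟨(v : Y), v.2⟩ : ↥(X (sr i))) = v := rfl
    rw [h4, hv, toAdd_ofAdd] at h3
    exact h3.symm
  · intro i _ u hu hu'
    exact hval i u hu hu'

end Psi

/-! ### Multiplicity one -/

section Mult

variable [Finite W] (R : RGD cs h p T n X) {F : I → Type*} [∀ i, Field (F i)] [∀ i, Finite (F i)] (D : Adj T X F)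
  [hp : Fact p.Prime] {φ : Y → Y} (hφ : Cfsg.Agent.H92.GG.Anti cs h T X φ)

/-- `e` is inverted by the elements of `T` with coordinate `-1` -/
def InvE {F : I → Type*} [∀ i, Field (F i)] (D : Adj T X F) (i : I) (e : Y) : Prop :=
  ∀ t : ↥T, (D.a i t : F i) = -1 → (t : Y) * e * (t : Y)⁻¹ = e⁻¹

include R hφ in
theorem InvE.beta {w : W} {g : Y} {i j : I} (hg : Rp cs R.nsys w g) (hw : -rep cs h w (sr i) = sr j) {e : Y}
    (hE : InvE D i e) : InvE D j (g * φ e * g⁻¹) := by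
  intro t ht
  obtain ⟨σ, c, hc, hs⟩ := semi R D hφ hg hw
  have hsT : g⁻¹ * (t : Y) * g ∈ T := (Subgroup.mem_normalizer_iff''.1 hg.mem_normalizer _).1 t.2
  obtain ⟨s, hs'⟩ : ∃ s : ↥T, (s : Y) = g⁻¹ * (t : Y) * g := ⟨⟨_, hsT⟩, rfl⟩
  have hconj : ∀ (k : I) (s : Y), s ∈ T → ∀ u ∈ X (sr k), s * u * s⁻¹ ∈ X (sr k) := by
    intro k s hsT u hu
    have := R.tor _ (isRoot_sr cs h k) s hsT
    rw [← this]
    exact conj_mem_cj.2 hu
  have hφi : ∀ x, φ x⁻¹ = (φ x)⁻¹ := hφ.inv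
  -- `β (s⁻¹ u s) = t β(u) t⁻¹`
  have hbe : ∀ u : Y, g * φ ((s : Y)⁻¹ * u * ((s : Y)⁻¹)⁻¹) * g⁻¹ = (t : Y) * (g * φ u * g⁻¹) * (t : Y)⁻¹ := by
    intro u
    rw [inv_inv, hφ.mul, hφ.mul, hφi, hφ.tor _ s.2, hs']
    group
  have h1 : (D.a i s⁻¹ : F i) = -1 := by
    obtain ⟨u, hu⟩ := D.surjX i (Multiplicative.ofAdd 1)
    have h2 := D.act i s⁻¹ u (hconj i _ (inv_mem s.2) u u.2)
    have h3 := hs _ (hconj i _ (inv_mem s.2) u u.2) (beta_mem R hφ hg hw (hconj i _ (inv_mem s.2) u u.2))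
    have h4 := D.act j t ⟨_, beta_mem R hφ hg hw u.2⟩ (hconj j _ t.2 _ (beta_mem R hφ hg hw u.2))
    have h5 := hs u u.2 (beta_mem R hφ hg hw u.2)
    have h6 : (⟨(t : Y) * (g * φ u * g⁻¹) * (t : Y)⁻¹, hconj j _ t.2 _ (beta_mem R hφ hg hw u.2)⟩ : ↥(X (sr j))) =
        ⟨g * φ ((s : Y)⁻¹ * u * ((s : Y)⁻¹)⁻¹) * g⁻¹, beta_mem R hφ hg hw (hconj i _ (inv_mem s.2) u u.2)⟩ :=
      Subtype.ext (hbe u).symm
    change Multiplicative.toAdd (D.x j ⟨(t : Y) * (g * φ u * g⁻¹) * (t : Y)⁻¹, _⟩) = _ at h4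
    rw [h6] at h4
    have h7 : Multiplicative.toAdd (D.x i ⟨(s : Y)⁻¹ * u * ((s : Y)⁻¹)⁻¹, hconj i _ (inv_mem s.2) u u.2⟩) =
        (D.a i s⁻¹ : F i) := by
      have h8 := h2
      rw [hu, toAdd_ofAdd, mul_one] at h8
      exact h8
    have h9 : Multiplicative.toAdd (D.x i ⟨(u : Y), u.2⟩) = 1 := by
      have : (⟨(u : Y), u.2⟩ : ↥(X (sr i))) = u := rfl
      rw [this, hu]; rfl
    rw [h7] at h3
    rw [h9, map_one, mul_one] at h5
    rw [h3, h5, ht] at h4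
    have h10 : σ (D.a i s⁻¹ : F i) = -1 := by
      have : c * (σ (D.a i s⁻¹ : F i) + 1) = 0 := by rw [mul_add, h4]; ring
      rcases mul_eq_zero.1 this with h11 | h11
      · exact absurd h11 hc
      · exact eq_neg_of_add_eq_zero_left h11
    have h12 : σ (D.a i s⁻¹ : F i) = σ (-1) := by rw [h10, map_neg, map_one]
    exact σ.injective h12
  have h2 := hE s⁻¹ h1
  rw [← hbe e]
  have h3 : (s : Y)⁻¹ * e * ((s : Y)⁻¹)⁻¹ = e⁻¹ := h2
  rw [h3, hφi]
  group

include R D hφ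

/-- **Multiplicity one from a root group datum, coordinates and an anti-automorphism.** -/
theorem multOne_gen [Finite Y] (hM : ∀ i j, M i j ≠ 6)
    (hE : ∀ i, ∃ (e : Y) (he : e ∈ X (sr i)), D.x i ⟨e, he⟩ = Multiplicative.ofAdd 1 ∧ InvE D i e)
    (hU : ∀ i (e e' : Y) (he : e ∈ X (sr i)) (he' : e' ∈ X (sr i)), D.x i ⟨e, he⟩ = D.x i ⟨e', he'⟩ →
      InvE D i e → InvE D i e' → e = e') : Cfsg.Agent.H743.GG.MultOne cs h T X := by
  classical
  choose e he hx hI using hE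
  have hne : ∀ i, e i ≠ 1 := by
    intro i h1
    have h2 : (⟨e i, he i⟩ : ↥(X (sr i))) = 1 := Subtype.ext h1
    have h3 := hx i
    rw [h2, map_one] at h3
    exact zero_ne_one (α := F i) (congrArg Multiplicative.toAdd h3)
  obtain ⟨n', R', P⟩ := exists_pin R hM he hne
  obtain ⟨ψ, hψ, hval⟩ := exists_psi R' D
  refine Cfsg.Agent.H743.GG.multOne_pin R' D hφ P hψ ?_
  intro i _ j _ w g _ hg hw hψg
  have hCi : CharP (F i) p := charP_F R' D i
  have hCj : CharP (F j) p := charP_F R' D j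
  obtain ⟨σ, c, hc, hs⟩ := semi R' D hφ hg hw
  have hUJ : ∀ (k : I) (u : Y), u ∈ X (sr k) → u ∈ UJ cs h X Set.univ := fun k u hu =>
    RGD.le_Sup (S := PosJ cs h Set.univ) (sr_mem_PosJ (Set.mem_univ k)) hu
  have h1 : c = 1 := by
    refine scalar_eq_one (zc_ne_one p (F j)) fun s => ?_
    obtain ⟨u, hu⟩ := D.surjX i (Multiplicative.ofAdd (σ.symm s))
    have h2 := hψg u u.2
    rw [Cfsg.Agent.H92.GG.ext_of_mem ψ (hUJ i u u.2),
      Cfsg.Agent.H92.GG.ext_of_mem ψ (hUJ j _ (beta_mem R' hφ hg hw u.2))] at h2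
    have h3 := congrArg (fun z : ℂˣ => (z : ℂ)) h2
    rw [hval i u u.2, hval j _ (beta_mem R' hφ hg hw u.2), hs u u.2 (beta_mem R' hφ hg hw u.2)] at h3
    have h4 : Multiplicative.toAdd (D.x i ⟨(u : Y), u.2⟩) = σ.symm s := by
      have : (⟨(u : Y), u.2⟩ : ↥(X (sr i))) = u := rfl
      rw [this, hu]; rfl
    rw [h4, RingEquiv.apply_symm_apply, ← zc_iso p (F i) σ, RingEquiv.apply_symm_apply] at h3
    exact h3
  have hm := beta_mem R' hφ hg hw (he i)
  refine hU j _ _ hm (he j) ?_ (InvE.beta R' D hφ hg hw (hI i)) (hI j)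
  have h2 := hs (e i) (he i) hm
  rw [hx i, h1, toAdd_ofAdd, map_one, mul_one] at h2
  rw [hx j]
  exact congrArg Multiplicative.ofAdd h2

/-- **The same if the simple root groups are the additive groups of the fields.** -/
theorem multOne [Finite Y] (hM : ∀ i j, M i j ≠ 6) (hinj : ∀ i, Function.Injective (D.x i)) :
    Cfsg.Agent.H743.GG.MultOne cs h T X := by
  have hconj : ∀ (k : I) (s : Y), s ∈ T → ∀ u ∈ X (sr k), s * u * s⁻¹ ∈ X (sr k) := by
    intro k s hsT u hu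
    have := R.tor _ (isRoot_sr cs h k) s hsT
    rw [← this]
    exact conj_mem_cj.2 hu
  refine multOne_gen R D hφ hM (fun i => ?_) fun i e e' he he' hee _ _ => congrArg Subtype.val (hinj i hee)
  obtain ⟨u, hu⟩ := D.surjX i (Multiplicative.ofAdd 1)
  refine ⟨u, u.2, hu, fun t ht => ?_⟩
  have h1 := D.act i t u (hconj i t t.2 u u.2)
  rw [ht, neg_one_mul] at h1
  have h2 : (⟨(t : Y) * (u : Y) * (t : Y)⁻¹, hconj i t t.2 u u.2⟩ : ↥(X (sr i))) = u⁻¹ := by
    apply hinj i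
    rw [map_inv]
    exact h1
  exact congrArg Subtype.val h2

end Mult

end Cfsg.Agent.H992.MU
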