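import Cfsg.Agent.H992.MU.Braid
import Cfsg.Agent.Mrg.Omega.Lie.End.KSys
import Cfsg.Agent.H743.GG.Count

/-!
# Pinnings and semilinearity (helper992)

* `exists_pin` : for arbitrary nontrivial `e i ∈ X (sr i)` the `μ`-elements `n' i` of `e i` give a root group datum with a
  pinning (no bond of order 6);
* `semi` : `x ↦ g φ(x) g⁻¹ : X (sr i) → X (sr j)` is `s ↦ c σ(s)` in the coordinates of `Adj`, `σ` an isomorphism of fields;
-/

set_option autoImplicit false
set_option linter.unusedSectionVars false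

namespace Cfsg.Agent.H992.MU

open CoxeterSystem Cfsg.Agent.ChevalleyStructure.CoxeterGeom Cfsg.Agent.Tits.Roots Cfsg.Agent.Tits.Core
  Cfsg.Agent.Tits.Exchange Cfsg.Agent.Nodes.Reps Cfsg.Agent.Nodes.BNOf Cfsg.Agent.Nodes.OppDec
  Cfsg.Agent.Nodes.MuSq Cfsg.Agent.Nodes.Bruhat Cfsg.Agent.Nodes.LeviDec Cfsg.Agent.H148.GG
open scoped commutatorElement

variable {I W Y : Type*} [Fintype I] [DecidableEq I] [Group W] [Group Y] {M : CoxeterMatrix I}
  {cs : CoxeterSystem M W} {A : I → I → ℤ} {h : IsCartan M A} {p : ℕ} {T : Subgroup Y} {n : I → Y}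
  {X : (I → ℤ) → Subgroup Y}

section Pin

variable (R : RGD cs h p T n X)

include R

/-- the `μ`-element of an element of a simple root group -/
theorem exists_mu (i : I) {e : Y} (he : e ∈ X (sr i)) (hne : e ≠ 1) : ∃ c m, Mu R 1 i e c m := by
  have hr := rp_simple cs R.nsys i
  have h1 : (n i)⁻¹ * e * n i ∈ X (-sr i) := by
    have := R.conj_mem' hr (isRoot_sr cs h i) he
    rwa [cs.inv_simple, rep_simple_sr] at this
  have h2 : (n i)⁻¹ * e * n i ≠ 1 := by
    intro h3
    apply hne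
    have : e = n i * ((n i)⁻¹ * e * n i) * (n i)⁻¹ := by group
    rw [this, h3]; group
  obtain ⟨a, ha, t, ht, b, hb, e1⟩ := R.rk1 i _ h1 h2
  have hc : ∀ u ∈ X (sr i), n i * u * (n i)⁻¹ ∈ X (-sr i) := fun u hu => by
    have := R.conj_mem hr (isRoot_sr cs h i) hu
    rwa [rep_simple_sr] at this
  refine ⟨(n i * b * (n i)⁻¹)⁻¹, n i * t, ?_, ?_, ?_, (n i * a * (n i)⁻¹)⁻¹, ?_, ?_⟩
  · rw [map_one]; exact he
  · rw [map_one]; exact inv_mem (hc b hb)
  · rw [one_mul, inv_one, mul_one]; exact hr.mul_mem_right ht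
  · rw [map_one]; exact inv_mem (hc a ha)
  · have : e = n i * ((n i)⁻¹ * e * n i) * (n i)⁻¹ := by group
    rw [this, e1]; group

/-- change of the representatives -/
theorem rgd_chn {n' : I → Y} (hn : ∀ i, Rp cs R.nsys (cs.simple i) (n' i)) : RGD cs h p T n' X where
  nsys := by
    refine ⟨fun i => (hn i).mem_normalizer, fun i j => ?_⟩
    have h1 : ∀ k : ℕ, Rp cs R.nsys ((cs.simple i * cs.simple j) ^ k) ((n' i * n' j) ^ k) := by
      intro k
      induction k with
      | zero => rw [pow_zero, pow_zero]; exact rp_one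
      | succ k ih => rw [pow_succ, pow_succ]; exact ih.mul ((hn i).mul (hn j))
    have h2 := h1 (M i j)
    rw [cs.simple_mul_simple_pow] at h2
    exact h2.mem_of_one
  conj := fun i x hx => R.conj_rp (hn i) hx
  tor := R.tor
  comm := R.comm
  rk1 := by
    intro i u hu hne
    obtain ⟨a, ha, t, ht, b, hb, e⟩ := R.rk1 i u hu hne
    have h1 : n i * (n' i)⁻¹ ∈ T := by
      have := (rp_simple cs R.nsys i).mul (hn i).inv
      rw [mul_inv_cancel] at this
      exact this.mem_of_one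
    refine ⟨a, ha, t * (n i * (n' i)⁻¹), mul_mem ht h1, b, hb, ?_⟩
    rw [e]; group
  pgrp := R.pgrp
  notp := R.notp
  tcop := R.tcop

/-- **pinnings** -/
theorem exists_pin [Finite W] (hM : ∀ i j, M i j ≠ 6) {e : I → Y} (he : ∀ i, e i ∈ X (sr i)) (hne : ∀ i, e i ≠ 1) :
    ∃ n' : I → Y, RGD cs h p T n' X ∧ Cfsg.Agent.H92.GG.Pin cs h n' X Set.univ e := by
  choose c m hm using fun i => exists_mu R i (he i) (hne i)
  refine ⟨m, rgd_chn R fun i => ?_, ⟨fun i _ => he i, fun i _ => ?_, fun i j hij _ => ?_⟩⟩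
  · have := (hm i).2.2.1
    rwa [one_mul, inv_one, mul_one] at this
  · obtain ⟨h1, h2, -, b, h3, h4⟩ := hm i
    rw [map_one, Module.End.one_apply] at h2 h3
    exact ⟨b, h3, c i, h2, h4⟩
  · rcases h.rel i j hij with h1 | h1 | h1 | h1
    · rw [h1.1]
      simp only [Cfsg.Agent.ParSys.alt, List.map_cons, List.map_nil, List.prod_cons, List.prod_nil, mul_one]
      exact braid2 R hij (hm i) (hm j) h1.1
    · rw [h1.1]
      simp only [Cfsg.Agent.ParSys.alt, List.map_cons, List.map_nil, List.prod_cons, List.prod_nil, mul_one]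
      rw [← mul_assoc, ← mul_assoc]
      exact braid3 R hij (hm i) (hm j) h1.1
    · rw [h1.1]
      simp only [Cfsg.Agent.ParSys.alt, List.map_cons, List.map_nil, List.prod_cons, List.prod_nil, mul_one]
      rw [← mul_assoc, ← mul_assoc, ← mul_assoc, ← mul_assoc]
      exact braid4 R hij (hm i) (hm j) h1.1
    · exact absurd h1.1 (hM i j)

end Pin

/-! ### Additive characters -/

section Char

variable (p : ℕ) [hp : Fact p.Prime] (K : Type*) [Field K] [Finite K] [CharP K p]

/-- the canonical additive character -/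
noncomputable def zc : AddChar K ℂ :=
  letI := ZMod.algebra K p
  (ZMod.stdAddChar (N := p)).compAddMonoidHom (Algebra.trace (ZMod p) K).toAddMonoidHom

theorem zc_ne_one : zc p K ≠ 1 := by
  letI := ZMod.algebra K p
  intro h1
  have h2 : Function.Surjective (Algebra.trace (ZMod p) K) := Algebra.trace_surjective (ZMod p) K
  obtain ⟨s, hs⟩ := h2 1
  have h3 : (ZMod.stdAddChar (N := p)) (Algebra.trace (ZMod p) K s) = 1 := by
    have := congrArg (fun f : AddChar K ℂ => f s) h1
    exact this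
  have h4 : (ZMod.stdAddChar (N := p)) (1 : ZMod p) = (ZMod.stdAddChar (N := p)) 0 := by
    rw [← hs, h3, AddChar.map_zero_eq_one]
  have h5 := ZMod.injective_stdAddChar h4
  exact one_ne_zero h5

theorem zc_iso {K' : Type*} [Field K'] [Finite K'] [CharP K' p] (σ : K ≃+* K') (s : K) : zc p K' (σ s) = zc p K s := by
  letI := ZMod.algebra K p
  letI := ZMod.algebra K' p
  have h1 : Algebra.trace (ZMod p) K' (σ s) = Algebra.trace (ZMod p) K s := by
    have h2 : ∀ r : ZMod p, σ (algebraMap (ZMod p) K r) = algebraMap (ZMod p) K' r := fun r => by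
      have : (σ : K →+* K').comp (algebraMap (ZMod p) K) = algebraMap (ZMod p) K' := Subsingleton.elim _ _
      exact congrArg (fun f : ZMod p →+* K' => f r) this
    exact Algebra.trace_eq_of_algEquiv (AlgEquiv.ofRingEquiv h2) s
  exact congrArg (fun r : ZMod p => (ZMod.stdAddChar (N := p)) r) h1

end Char

/-! ### Semilinearity -/

section Semi

variable [Finite W] (R : RGD cs h p T n X) {F : I → Type*} [∀ i, Field (F i)] [∀ i, Finite (F i)] (D : Adj T X F)
  {φ : Y → Y} (hφ : Cfsg.Agent.H92.GG.Anti cs h T X φ)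

include R D

theorem charP_F [hp : Fact p.Prime] (i : I) : CharP (F i) p := by
  obtain ⟨u, hu⟩ := D.surjX i (Multiplicative.ofAdd 1)
  obtain ⟨k, hk⟩ := R.pgrp i u
  have h1 : (Multiplicative.ofAdd (1 : F i)) ^ p ^ k = 1 := by rw [← hu, ← map_pow, hk, map_one]
  have h2 : (p ^ k : ℕ) • (1 : F i) = 0 := h1
  rw [nsmul_eq_mul, mul_one] at h2
  push_cast at h2
  refine (CharP.charP_iff_prime_eq_zero hp.out).2 ?_
  by_contra hne
  exact pow_ne_zero k hne h2

include hφ

omit D [∀ i, Finite (F i)] in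
theorem beta_mem {w : W} {g : Y} {i j : I} (hg : Rp cs R.nsys w g) (hw : -rep cs h w (sr i) = sr j) {u : Y}
    (hu : u ∈ X (sr i)) : g * φ u * g⁻¹ ∈ X (sr j) := by
  have h4 := R.conj_mem hg (isRoot_sr cs h i).neg (hφ.root _ (isRoot_sr cs h i) u hu)
  rwa [map_neg, hw] at h4

omit D [∀ i, Finite (F i)] in
theorem beta_surj {w : W} {g : Y} {i j : I} (hg : Rp cs R.nsys w g) (hw : -rep cs h w (sr i) = sr j) {v : Y}
    (hv : v ∈ X (sr j)) : ∃ u ∈ X (sr i), g * φ u * g⁻¹ = v := by
  refine ⟨φ (g⁻¹ * v * g), ?_, by rw [hφ.invo]; group⟩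
  have h1 := R.conj_mem' hg (isRoot_sr cs h j) hv
  rw [← hw, map_neg, rep_inv_apply] at h1
  have h2 := hφ.root _ (isRoot_sr cs h i).neg _ h1
  rwa [neg_neg] at h2

theorem semi {w : W} {g : Y} {i j : I} (hg : Rp cs R.nsys w g) (hw : -rep cs h w (sr i) = sr j) :
    ∃ (σ : F i ≃+* F j) (c : F j), c ≠ 0 ∧ ∀ (u : Y) (hu : u ∈ X (sr i)) (hu' : g * φ u * g⁻¹ ∈ X (sr j)),
      Multiplicative.toAdd (D.x j ⟨g * φ u * g⁻¹, hu'⟩) = c * σ (Multiplicative.toAdd (D.x i ⟨u, hu⟩)) := by
  classical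
  have hinv : ∀ x, φ x⁻¹ = (φ x)⁻¹ := hφ.inv
  let β : ↥(X (sr i)) → ↥(X (sr j)) := fun u => ⟨g * φ u * g⁻¹, beta_mem R hφ hg hw u.2⟩
  have hβ : ∀ u v, β (u * v) = β v * β u := by
    intro u v
    apply Subtype.ext
    change g * φ ((u : Y) * v) * g⁻¹ = (g * φ v * g⁻¹) * (g * φ u * g⁻¹)
    rw [hφ.mul]; group
  have hβs : Function.Surjective β := by
    rintro ⟨v, hv⟩
    obtain ⟨u, hu, e⟩ := beta_surj R hφ hg hw hv
    exact ⟨⟨u, hu⟩, Subtype.ext e⟩
  -- the kernels
  have hk : ∀ u, D.x i u = 1 → D.x j (β u) = 1 := by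
    intro u hu
    by_contra hne
    have h1 : Multiplicative.toAdd (D.x j (β u)) ≠ 0 := fun h0 => hne h0
    obtain ⟨e, he⟩ := AddChar.exists_apply_ne_zero.2 h1
    let ψ : ↥(X (sr i)) →* ℂ :=
      { toFun := fun v => e (Multiplicative.toAdd (D.x j (β v)))
        map_one' := by
          have : β 1 = 1 := by
            have := hβ 1 1
            rw [one_mul] at this
            exact (left_eq_mul.1 this)
          rw [this, map_one, toAdd_one, AddChar.map_zero_eq_one]
        map_mul' := fun v v' => by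
          rw [hβ, map_mul, toAdd_mul, AddChar.map_add_eq_mul, mul_comm] }
    have h2 := D.lin i ψ.toHomUnits u hu
    have h3 : ψ u = 1 := by
      have := congrArg (fun z : ℂˣ => (z : ℂ)) h2
      exact this
    exact he h3
  have hone : β 1 = 1 := by
    have := hβ 1 1
    rw [one_mul] at this
    exact (left_eq_mul.1 this)
  have hβi : ∀ u, β u⁻¹ = (β u)⁻¹ := by
    intro u
    rw [eq_inv_iff_mul_eq_one, ← hβ, mul_inv_cancel, hone]
  -- the additive map
  let r : Multiplicative (F i) → ↥(X (sr i)) := Function.surjInv (D.surjX i)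
  have hr : ∀ s, D.x i (r s) = s := Function.surjInv_eq (D.surjX i)
  have key : ∀ u v, D.x i u = D.x i v → D.x j (β u) = D.x j (β v) := by
    intro u v huv
    have h1 := hk (u * v⁻¹) (by rw [map_mul, huv, map_inv, mul_inv_cancel])
    rw [hβ, hβi, map_mul, map_inv] at h1
    exact (inv_mul_eq_one.1 h1).symm
  let b : F i →+ F j :=
    { toFun := fun s => Multiplicative.toAdd (D.x j (β (r (Multiplicative.ofAdd s))))
      map_zero' := by
        rw [key (r (Multiplicative.ofAdd 0)) 1 (by rw [hr, map_one]; rfl), hone, map_one]; rfl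
      map_add' := fun s t => by
        rw [key (r (Multiplicative.ofAdd (s + t))) (r (Multiplicative.ofAdd t) * r (Multiplicative.ofAdd s))
          (by rw [map_mul, hr, hr, hr, ← ofAdd_add, add_comm]), hβ, map_mul, toAdd_mul] }
  have hb : ∀ u, Multiplicative.toAdd (D.x j (β u)) = b (Multiplicative.toAdd (D.x i u)) := by
    intro u
    change _ = Multiplicative.toAdd (D.x j (β (r (D.x i u))))
    rw [key u (r (D.x i u)) (hr _).symm]
  have hbs : Function.Surjective b := by
    intro t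
    obtain ⟨v, hv⟩ := D.surjX j (Multiplicative.ofAdd t)
    obtain ⟨u, rfl⟩ := hβs v
    exact ⟨_, by rw [← hb, hv]; rfl⟩
  -- scalars
  have hsc : ∀ a : F i, ∃ a' : F j, ∀ s, b (a * s) = a' * b s := by
    intro a
    by_cases ha : a = 0
    · exact ⟨0, fun s => by rw [ha, zero_mul, zero_mul, map_zero]⟩
    obtain ⟨t, ht⟩ := D.surjT (Function.update 1 i (Units.mk0 a ha))
    have ht' := ht i
    rw [Function.update_self] at ht'
    have hs : g * (t : Y)⁻¹ * g⁻¹ ∈ T := (Subgroup.mem_normalizer_iff.1 hg.mem_normalizer _).1 (inv_mem t.2)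
    have hconj : ∀ (k : I) (s : Y), s ∈ T → ∀ u ∈ X (sr k), s * u * s⁻¹ ∈ X (sr k) := by
      intro k s hsT u hu
      have := R.tor _ (isRoot_sr cs h k) s hsT
      rw [← this]
      exact conj_mem_cj.2 hu
    refine ⟨(D.a j ⟨_, hs⟩ : F j), fun s => ?_⟩
    obtain ⟨u, hu⟩ := D.surjX i (Multiplicative.ofAdd s)
    have h1 := D.act i t u (hconj i t t.2 u u.2)
    rw [hu, toAdd_ofAdd, ht', Units.val_mk0] at h1
    have h2 := hb ⟨(t : Y) * (u : Y) * (t : Y)⁻¹, hconj i t t.2 u u.2⟩
    rw [h1] at h2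
    rw [← h2]
    have h3 := D.act j ⟨_, hs⟩ (β u) (hconj j _ hs (β u) (β u).2)
    rw [hb, hu, toAdd_ofAdd] at h3
    rw [← h3]
    congr 2
    apply Subtype.ext
    change g * φ ((t : Y) * u * (t : Y)⁻¹) * g⁻¹ = g * (t : Y)⁻¹ * g⁻¹ * (g * φ u * g⁻¹) * (g * (t : Y)⁻¹ * g⁻¹)⁻¹
    rw [hφ.mul, hφ.mul, hφ.tor _ t.2, hφ.tor _ (inv_mem t.2)]
    group
  have hb1 : b 1 ≠ 0 := by
    intro h1
    obtain ⟨s, hs⟩ := hbs 1
    obtain ⟨a', ha'⟩ := hsc s
    have := ha' 1
    rw [mul_one, h1, mul_zero, hs] at this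
    exact one_ne_zero this
  have hbm : ∀ a s, b (a * s) * b 1 = b a * b s := by
    intro a s
    obtain ⟨a', ha'⟩ := hsc a
    have h1 := ha' 1
    rw [mul_one] at h1
    rw [ha' s, h1]; ring
  let σ : F i →+* F j :=
    { toFun := fun s => b s / b 1
      map_one' := div_self hb1
      map_mul' := fun a s => by
        rw [div_mul_div_comm, ← hbm]
        field_simp
      map_zero' := by rw [map_zero, zero_div]
      map_add' := fun s t => by rw [map_add, add_div] }
  refine ⟨RingEquiv.ofBijective σ ⟨σ.injective, fun t => ?_⟩, b 1, hb1, fun u hu hu' => ?_⟩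
  · obtain ⟨s, hs⟩ := hbs (t * b 1)
    exact ⟨s, by change b s / b 1 = t; rw [hs]; field_simp⟩
  · change _ = b 1 * (b _ / b 1)
    rw [mul_div_cancel₀ _ hb1]
    exact hb ⟨u, hu⟩

end Semi

end Cfsg.Agent.H992.MU
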