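import Cfsg.Agent.Nodes.MuSq
import Cfsg.Agent.H92.GG.MultOdd
import Cfsg.Agent.Tits.C3Roots

/-!
# Rank two: the exact braid relations of the `μ`-elements (helper992)

`S w i j` : the roots strictly between `w α_i` and `w α_j`, `S' w i j` : strictly between `w s_i α_j` and `w α_j`;
`step` : if `a⁻¹ d a = x y d`, `x ∈ X (w s_i α_j)`, `y ∈ Sup X (S' w i j)`, `m = b a c = μ(a)`, then `m⁻¹ d m = x` and
`x⁻¹ c x = y d c`;
`braid3`, `braid4` : the exact braid relations.
-/

set_option autoImplicit false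
set_option linter.unusedSectionVars false

namespace Cfsg.Agent.H992.MU

open CoxeterSystem Cfsg.Agent.ChevalleyStructure.CoxeterGeom Cfsg.Agent.Tits.Roots Cfsg.Agent.Tits.Core
  Cfsg.Agent.Tits.Exchange Cfsg.Agent.Nodes.Reps Cfsg.Agent.Nodes.BNOf Cfsg.Agent.Nodes.OppDec
  Cfsg.Agent.Nodes.MuSq
open scoped commutatorElement

variable {I W Y : Type*} [Fintype I] [DecidableEq I] [Group W] [Group Y] {M : CoxeterMatrix I}
  {cs : CoxeterSystem M W} {A : I → I → ℤ} {h : IsCartan M A} {p : ℕ} {T : Subgroup Y} {n : I → Y}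
  {X : (I → ℤ) → Subgroup Y}

/-! ### Roots -/

theorem btwn_trans {x y z z' : I → ℤ} (h1 : Btwn cs h x y z) (h2 : Btwn cs h x z z') : Btwn cs h x y z' := by
  obtain ⟨-, m, a, b, hm, ha, hb, e⟩ := h1
  obtain ⟨hz', m', a', b', hm', ha', hb', e'⟩ := h2
  refine ⟨hz', m * m', m * a' + b' * a, b' * b, by positivity, by positivity, by positivity, ?_⟩
  calc (m * m') • z' = m • (m' • z') := by rw [mul_smul]
    _ = (m * a') • x + b' • (m • z) := by rw [e', smul_add, smul_smul, smul_comm m b' z]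
    _ = (m * a') • x + b' • (a • x + b • y) := by rw [e]
    _ = _ := by rw [smul_add, smul_smul, smul_smul, add_smul, add_assoc]

theorem si_sj (h : IsCartan M A) {i j : I} : rep cs h (cs.simple i) (sr j) = sr j + (-A i j) • sr i := by
  rw [rep_simple_eq, Cfsg.Agent.Tits.C3Roots.pairing_sr, neg_smul, sub_eq_add_neg]

section

variable {i j : I} (hij : i ≠ j) (hM : M i j ≠ 2)

include hij

theorem no_btwn_neg {z : I → ℤ} : ¬ Btwn cs h (-sr i) (sr j) z := by
  rintro ⟨hz, m, a, b, hm, ha, hb, e⟩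
  have h1 := congrFun e i
  have h2 := congrFun e j
  simp only [Pi.add_apply, Pi.smul_apply, smul_eq_mul, Pi.neg_apply, sr_self, sr_ne hij, sr_ne hij.symm] at h1 h2
  rcases hz.pos_or_neg with h0 | h0
  · have h3 : 0 ≤ z i := h0 i
    nlinarith
  · have h3 : z j ≤ 0 := h0 j
    nlinarith

include hM

theorem btwn_split {z : I → ℤ} (hz : Btwn cs h (sr i) (sr j) z) :
    z = rep cs h (cs.simple i) (sr j) ∨ Btwn cs h (rep cs h (cs.simple i) (sr j)) (sr j) z := by
  have hk : 0 < -A i j := neg_pos.2 (cartan_neg (h := h) hij hM)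
  obtain ⟨k, hk'⟩ : ∃ k, k = -A i j := ⟨_, rfl⟩
  obtain ⟨hz, m, a, b, hm, ha, hb, e⟩ := hz
  have hs := congrArg (rep cs h (cs.simple i)) e
  rw [map_add, map_smul, map_smul, map_smul, rep_simple_sr, si_sj h, ← hk'] at hs
  rw [← hk'] at hk
  have hr := hz.act (cs.simple i)
  have hi := congrFun hs i
  have hj := congrFun hs j
  simp only [Pi.add_apply, Pi.smul_apply, smul_eq_mul, Pi.neg_apply, sr_self, sr_ne hij, sr_ne hij.symm] at hi hj
  have h0 : 0 ≤ rep cs h (cs.simple i) z := by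
    rcases hr.pos_or_neg with h0 | h0
    · exact h0
    · have h3 : rep cs h (cs.simple i) z j ≤ 0 := h0 j
      nlinarith
  have h1 : 0 ≤ k * b - a := by
    have h3 : 0 ≤ rep cs h (cs.simple i) z i := h0 i
    nlinarith
  rcases h1.eq_or_lt with h2 | h2
  · left
    have h3 : rep cs h (cs.simple i) z = sr j := by
      refine hr.eq_sr h0 j fun l hl => ?_
      by_cases hli : l = i
      · subst hli
        have : m * rep cs h (cs.simple l) z l = 0 := by rw [hi]; linarith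
        rcases mul_eq_zero.1 this with h4 | h4
        · omega
        · exact h4
      · have h5 := congrFun hs l
        simp only [Pi.add_apply, Pi.smul_apply, smul_eq_mul, Pi.neg_apply, sr_ne hl, sr_ne hli] at h5
        have : m * rep cs h (cs.simple i) z l = 0 := by rw [h5]; ring
        rcases mul_eq_zero.1 this with h4 | h4
        · omega
        · exact h4
    rw [← h3, ← rep_mul_apply, cs.simple_mul_simple_self, map_one, Module.End.one_apply]
  · right
    refine ⟨hz, k * m, a, k * b - a, by positivity, ha, h2, ?_⟩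
    rw [si_sj h, ← hk', mul_smul, e]
    funext l
    simp only [Pi.add_apply, Pi.smul_apply, smul_eq_mul]
    ring

theorem btwn_up {z : I → ℤ} (hz : Btwn cs h (rep cs h (cs.simple i) (sr j)) (sr j) z) : Btwn cs h (sr i) (sr j) z := by
  have hk : 0 < -A i j := neg_pos.2 (cartan_neg (h := h) hij hM)
  obtain ⟨k, hk'⟩ : ∃ k, k = -A i j := ⟨_, rfl⟩
  obtain ⟨hz, m, a, b, hm, ha, hb, e⟩ := hz
  rw [si_sj h, ← hk'] at e
  rw [← hk'] at hk
  refine ⟨hz, m, a * k, a + b, hm, by positivity, by positivity, ?_⟩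
  rw [e]
  funext l
  simp only [Pi.add_apply, Pi.smul_apply, smul_eq_mul]
  ring

theorem btwn_side {z : I → ℤ} (hz : Btwn cs h (rep cs h (cs.simple i) (sr j)) (sr j) z) :
    Btwn cs h (rep cs h (cs.simple i) (sr j)) (-sr i) z := by
  have hk : 0 < -A i j := neg_pos.2 (cartan_neg (h := h) hij hM)
  obtain ⟨k, hk'⟩ : ∃ k, k = -A i j := ⟨_, rfl⟩
  obtain ⟨hz, m, a, b, hm, ha, hb, e⟩ := hz
  rw [si_sj h, ← hk'] at e
  rw [← hk'] at hk
  refine ⟨hz, m, a + b, b * k, hm, by positivity, by positivity, ?_⟩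
  rw [e, si_sj h, ← hk']
  funext l
  simp only [Pi.add_apply, Pi.smul_apply, smul_eq_mul, Pi.neg_apply]
  ring

theorem btwn_mid : Btwn cs h (rep cs h (cs.simple i) (sr j)) (-sr i) (sr j) := by
  have hk : 0 < -A i j := neg_pos.2 (cartan_neg (h := h) hij hM)
  refine ⟨isRoot_sr cs h j, 1, 1, -A i j, one_pos, one_pos, hk, ?_⟩
  rw [si_sj h]
  funext l
  simp only [Pi.add_apply, Pi.smul_apply, smul_eq_mul, Pi.neg_apply]
  ring

end

variable (cs h) in
/-- strictly between `w α_i` and `w α_j` -/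
def S (w : W) (i j : I) : Set (I → ℤ) := {z | Btwn cs h (rep cs h w (sr i)) (rep cs h w (sr j)) z}

variable (cs h) in
/-- strictly between `w s_i α_j` and `w α_j` -/
def S' (w : W) (i j : I) : Set (I → ℤ) :=
  {z | Btwn cs h (rep cs h (w * cs.simple i) (sr j)) (rep cs h w (sr j)) z}

theorem btwn_inv {w : W} {x y z : I → ℤ} (hz : Btwn cs h (rep cs h w x) (rep cs h w y) z) :
    Btwn cs h x y (rep cs h w⁻¹ z) := by
  have := hz.act w⁻¹
  rwa [rep_inv_apply, rep_inv_apply] at this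

section

variable {i j : I} (hij : i ≠ j) (hM : M i j ≠ 2) (w : W)

include hij hM

theorem S_split {z : I → ℤ} (hz : z ∈ S cs h w i j) :
    z = rep cs h (w * cs.simple i) (sr j) ∨ z ∈ S' cs h w i j := by
  have h1 := btwn_inv hz
  rcases btwn_split hij hM h1 with h2 | h2
  · left
    rw [rep_mul_apply, ← h2, rep_apply_inv]
  · right
    have h3 := h2.act w
    rw [rep_apply_inv, ← rep_mul_apply] at h3
    exact h3

theorem S'_le : S' cs h w i j ⊆ S cs h w i j := by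
  intro z hz
  have h0 : Btwn cs h (rep cs h w (rep cs h (cs.simple i) (sr j))) (rep cs h w (sr j)) z := by
    rw [← rep_mul_apply]; exact hz
  have h1 := (btwn_up hij hM (btwn_inv h0)).act w
  rwa [rep_apply_inv] at h1

theorem S'_le_next : S' cs h w i j ⊆ S cs h (w * cs.simple i) j i := by
  intro z hz
  have h0 : Btwn cs h (rep cs h w (rep cs h (cs.simple i) (sr j))) (rep cs h w (sr j)) z := by
    rw [← rep_mul_apply]; exact hz
  have h1 := (btwn_side hij hM (btwn_inv h0)).act w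
  rw [rep_apply_inv, ← rep_simple_sr cs h i, ← rep_mul_apply, ← rep_mul_apply] at h1
  exact h1

theorem mem_next : rep cs h w (sr j) ∈ S cs h (w * cs.simple i) j i := by
  have h1 := (btwn_mid (cs := cs) (h := h) hij hM).act w
  rw [← rep_simple_sr cs h i, ← rep_mul_apply, ← rep_mul_apply] at h1
  exact h1

end

/-! ### Root groups -/

theorem ne_neg {i j : I} (hij : i ≠ j) {w : W} {z : I → ℤ} (hz : z ∈ S cs h w i j) : rep cs h w (sr i) ≠ -z := by
  intro e
  obtain ⟨-, m, a, b, hm, ha, hb, e1⟩ := btwn_inv hz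
  have e2 : rep cs h w⁻¹ z = -sr i := by
    have := congrArg (rep cs h w⁻¹) e
    rw [rep_inv_apply, map_neg] at this
    rw [this, neg_neg]
  rw [e2] at e1
  have h2 := congrFun e1 j
  simp only [Pi.add_apply, Pi.smul_apply, smul_eq_mul, Pi.neg_apply, sr_self, sr_ne hij.symm] at h2
  omega

theorem S_symm {w : W} {i j : I} {z : I → ℤ} (hz : z ∈ S cs h w i j) : z ∈ S cs h w j i := Btwn.symm hz

section RG

variable (R : RGD cs h p T n X)

include R

theorem le_normalizer_S {i j : I} (hij : i ≠ j) (w : W) :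
    X (rep cs h w (sr i)) ≤ Subgroup.normalizer (RGD.Sup X (S cs h w i j) : Set Y) := by
  refine R.le_normalizer ⟨w, i, rfl⟩ fun y hy => ⟨hy.1, Or.inr ⟨ne_neg hij hy, fun z hz => ?_⟩⟩
  exact btwn_trans hy hz

theorem le_normalizer_S2 {i j : I} (hij : i ≠ j) (w : W) :
    X (rep cs h w (sr j)) ≤ Subgroup.normalizer (RGD.Sup X (S cs h w i j) : Set Y) := by
  have h1 := le_normalizer_S R hij.symm w
  have h2 : S cs h w j i = S cs h w i j := Set.ext fun z => ⟨S_symm, S_symm⟩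
  rwa [h2] at h1

theorem comm_S {i j : I} (hij : i ≠ j) (w : W) {a d : Y} (ha : a ∈ X (rep cs h w (sr i)))
    (hd : d ∈ X (rep cs h w (sr j))) : ⁅a, d⁆ ∈ RGD.Sup X (S cs h w i j) := by
  have h1 : rep cs h w (sr i) ≠ rep cs h w (sr j) := by
    intro e
    have := congrArg (rep cs h w⁻¹) e
    rw [rep_inv_apply, rep_inv_apply] at this
    have h2 := congrFun this i
    rw [sr_self, sr_ne hij] at h2
    exact one_ne_zero h2
  have h2 : rep cs h w (sr i) ≠ -rep cs h w (sr j) := by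
    intro e
    have := congrArg (rep cs h w⁻¹) e
    rw [map_neg, rep_inv_apply, rep_inv_apply] at this
    have h2 := congrFun this i
    rw [sr_self, Pi.neg_apply, sr_ne hij, neg_zero] at h2
    exact one_ne_zero h2
  exact R.btw_le_Sup (fun z hz => hz) (R.comm _ _ ⟨w, i, rfl⟩ ⟨w, j, rfl⟩ h1 h2 a ha d hd)

/-- `X (-w α_i)` and `X (w α_j)` commute -/
theorem comm_neg [Finite W] {i j : I} (hij : i ≠ j) (w : W) {b d : Y} (hb : b ∈ X (-rep cs h w (sr i)))
    (hd : d ∈ X (rep cs h w (sr j))) : b * d = d * b := by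
  have := Fintype.ofFinite W
  refine comm_one R (IsRoot.neg ⟨w, i, rfl⟩) ⟨w, j, rfl⟩ ?_ ?_ (fun z hz => ?_) hb hd
  · intro e
    have := congrArg (rep cs h w⁻¹) e
    rw [map_neg, rep_inv_apply, rep_inv_apply] at this
    have h2 := congrFun this j
    rw [Pi.neg_apply, sr_self, sr_ne hij.symm, neg_zero] at h2
    exact zero_ne_one h2
  · intro e
    have := congrArg (rep cs h w⁻¹) (neg_injective e)
    rw [rep_inv_apply, rep_inv_apply] at this
    have h2 := congrFun this i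
    rw [sr_self, sr_ne hij] at h2
    exact one_ne_zero h2
  · rw [← map_neg] at hz
    exact no_btwn_neg hij (btwn_inv hz)

omit R in
theorem exists_mul_of_norm {P Q : Subgroup Y} (hc : P ≤ Subgroup.normalizer (Q : Set Y)) {x : Y} (hx : x ∈ P ⊔ Q) :
    ∃ a ∈ P, ∃ b ∈ Q, x = a * b := by
  have hc' : ∀ a ∈ P, ∀ b ∈ Q, a⁻¹ * b * a ∈ Q := fun a ha b hb =>
    (Subgroup.mem_normalizer_iff''.1 (hc ha) b).1 hb
  have hc'' : ∀ a ∈ P, ∀ b ∈ Q, a * b * a⁻¹ ∈ Q := fun a ha b hb =>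
    (Subgroup.mem_normalizer_iff.1 (hc ha) b).1 hb
  let K : Subgroup Y :=
    { carrier := {x | ∃ a ∈ P, ∃ b ∈ Q, x = a * b}
      one_mem' := ⟨1, one_mem _, 1, one_mem _, by rw [one_mul]⟩
      mul_mem' := by
        rintro _ _ ⟨a, ha, b, hb, rfl⟩ ⟨c, hc1, d, hd, rfl⟩
        refine ⟨a * c, mul_mem ha hc1, c⁻¹ * b * c * d, mul_mem (hc' c hc1 b hb) hd, ?_⟩
        group
      inv_mem' := by
        rintro _ ⟨a, ha, b, hb, rfl⟩
        refine ⟨a⁻¹, inv_mem ha, a * b⁻¹ * a⁻¹, hc'' a ha _ (inv_mem hb), ?_⟩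
        group }
  have h1 : P ⊔ Q ≤ K := sup_le (fun a ha => ⟨a, ha, 1, one_mem _, by rw [mul_one]⟩)
    fun b hb => ⟨1, one_mem _, b, hb, by rw [one_mul]⟩
  exact h1 hx

theorem le_normalizer_S' {i j : I} (hij : i ≠ j) (hM : M i j ≠ 2) (w : W) :
    X (rep cs h (w * cs.simple i) (sr j)) ≤ Subgroup.normalizer (RGD.Sup X (S' cs h w i j) : Set Y) := by
  refine R.le_normalizer ⟨w * cs.simple i, j, rfl⟩ fun y hy => ⟨hy.1, Or.inr ⟨?_, fun z hz => ?_⟩⟩
  · exact ne_neg hij.symm (S'_le_next hij hM w hy)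
  · exact btwn_trans hy hz

/-- decomposition of the elements of the interval -/
theorem exists_decomp {i j : I} (hij : i ≠ j) (hM : M i j ≠ 2) (w : W) {u : Y} (hu : u ∈ RGD.Sup X (S cs h w i j)) :
    ∃ x ∈ X (rep cs h (w * cs.simple i) (sr j)), ∃ y ∈ RGD.Sup X (S' cs h w i j), u = x * y := by
  refine exists_mul_of_norm (le_normalizer_S' R hij hM w) ?_
  refine (RGD.Sup_le (fun z hz => ?_) : RGD.Sup X (S cs h w i j) ≤ _) hu
  rcases S_split hij hM w hz with rfl | h1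
  · exact le_sup_left
  · exact le_trans (RGD.le_Sup h1) le_sup_right

/-- uniqueness of the decomposition -/
theorem sep [Finite W] {i j : I} (hij : i ≠ j) (w : W) {u : Y}
    (hu : u ∈ X (rep cs h w (sr j))) (hu' : u ∈ RGD.Sup X (S cs h w j i)) : u = 1 := by
  obtain ⟨g, hg⟩ := exists_rp cs R.nsys (w * cs.simple j)⁻¹
  have h1 : g * u * g⁻¹ ∈ X (-sr j) := by
    have := R.conj_mem hg ⟨w, j, rfl⟩ hu
    rwa [← rep_mul_apply, mul_inv_rev, cs.inv_simple, mul_assoc, inv_mul_cancel, mul_one, rep_simple_sr] at this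
  have h2 : g * u * g⁻¹ ∈ RGD.B cs h T X := by
    have h3 : g * u * g⁻¹ ∈ cj g (RGD.Sup X (S cs h w j i)) := conj_mem_cj.2 hu'
    rw [RGD.cj_Sup] at h3
    refine (iSup_le ?_ : _ ≤ RGD.B cs h T X) h3
    rintro ⟨z, hz⟩
    rw [R.conj_rp hg hz.1]
    have h4 : Btwn cs h (sr j) (sr i) (rep cs h w⁻¹ z) := btwn_inv hz
    have h5 : rep cs h (w * cs.simple j)⁻¹ z = rep cs h (cs.simple j) (rep cs h w⁻¹ z) := by
      rw [mul_inv_rev, cs.inv_simple, rep_mul_apply]
    rw [h5]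
    refine RGD.X_le_B (h4.1.act _) (h4.1.simple_nonneg ?_ j ?_)
    · exact RGD.nonneg_of_btwn (sr_nonneg j) (sr_nonneg i) h4
    · intro e
      obtain ⟨-, m, a, b, hm, ha, hb, e1⟩ := h4
      rw [e] at e1
      have h6 := congrFun e1 i
      simp only [Pi.add_apply, Pi.smul_apply, smul_eq_mul, sr_self, sr_ne hij] at h6
      omega
  have h3 := eq_one_of_mem_UN_of_mem_B R
    (X_le_UN (isRoot_sr cs h j).neg (neg_nonpos.2 (sr_nonneg j)) h1) h2
  have e : u = g⁻¹ * (g * u * g⁻¹) * g := by group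
  rw [e, h3]; group

/-- **one step** -/
theorem step [Finite W] {i j : I} (hij : i ≠ j) (hM : M i j ≠ 2) (w : W) {a b c d m x y : Y}
    (ha : a ∈ X (rep cs h w (sr i))) (hb : b ∈ X (-rep cs h w (sr i))) (hc : c ∈ X (-rep cs h w (sr i)))
    (hd : d ∈ X (rep cs h w (sr j))) (hm : Rp cs R.nsys (w * cs.simple i * w⁻¹) m) (hmu : m = b * a * c)
    (hx : x ∈ X (rep cs h (w * cs.simple i) (sr j))) (hy : y ∈ RGD.Sup X (S' cs h w i j))
    (e : a⁻¹ * d * a = x * y * d) : m⁻¹ * d * m = x ∧ x⁻¹ * c * x = y * d * c := by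
  have e1 : m⁻¹ * d * m = c⁻¹ * (x * y * d) * c := by
    have e2 : b⁻¹ * d * b = d := by
      have := comm_neg R hij w hb hd
      rw [mul_assoc, ← this]; group
    rw [← e, hmu]
    calc (b * a * c)⁻¹ * d * (b * a * c) = c⁻¹ * (a⁻¹ * (b⁻¹ * d * b) * a) * c := by group
      _ = _ := by rw [e2]
  have hc' : c ∈ X (rep cs h (w * cs.simple i) (sr i)) := by
    rw [rep_mul_apply, rep_simple_sr, map_neg]; exact hc
  have h1 : m⁻¹ * d * m ∈ X (rep cs h (w * cs.simple i) (sr j)) := by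
    have := R.conj_mem' hm ⟨w, j, rfl⟩ hd
    have e3 : rep cs h (w * cs.simple i * w⁻¹)⁻¹ (rep cs h w (sr j)) = rep cs h (w * cs.simple i) (sr j) := by
      rw [mul_inv_rev, mul_inv_rev, inv_inv, cs.inv_simple, rep_mul_apply, rep_mul_apply, rep_inv_apply, rep_mul_apply]
    rwa [e3] at this
  -- the rest
  have h2 : x⁻¹ * (m⁻¹ * d * m) ∈ RGD.Sup X (S cs h (w * cs.simple i) j i) := by
    have e4 : x⁻¹ * (m⁻¹ * d * m) = ⁅x⁻¹, c⁻¹⁆ * (c⁻¹ * (y * d) * c) := by
      rw [e1, commutatorElement_def]; group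
    rw [e4]
    refine mul_mem (comm_S R hij.symm _ (inv_mem hx) (inv_mem hc')) ?_
    refine (Subgroup.mem_normalizer_iff''.1 (le_normalizer_S2 R hij.symm (w * cs.simple i) hc') _).1 ?_
    exact mul_mem (RGD.Sup_mono (S'_le_next hij hM w) hy) (RGD.le_Sup (mem_next hij hM w) hd)
  have h3 : x⁻¹ * (m⁻¹ * d * m) = 1 := sep R hij _ (mul_mem (inv_mem hx) h1) h2
  have h4 : m⁻¹ * d * m = x := (inv_mul_eq_one.1 h3).symm
  refine ⟨h4, ?_⟩
  rw [h4] at e1
  have e5 : c * x * c⁻¹ = x * y * d := by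
    calc c * x * c⁻¹ = c * (c⁻¹ * (x * y * d) * c) * c⁻¹ := by rw [← e1]
      _ = _ := by group
  calc x⁻¹ * c * x = x⁻¹ * (c * x * c⁻¹) * c := by group
    _ = _ := by rw [e5]; group

/-! ### `μ`-elements -/

/-- `m = b a c` is the `μ`-element of `a ∈ X (w α_i)` -/
def Mu (R : RGD cs h p T n X) (w : W) (i : I) (a c m : Y) : Prop :=
  a ∈ X (rep cs h w (sr i)) ∧ c ∈ X (-rep cs h w (sr i)) ∧ Rp cs R.nsys (w * cs.simple i * w⁻¹) m ∧
    ∃ b ∈ X (-rep cs h w (sr i)), m = b * a * c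

omit R in
theorem refl_self (w : W) (i : I) : rep cs h (w * cs.simple i * w⁻¹) (rep cs h w (sr i)) = -rep cs h w (sr i) := by
  rw [rep_mul_apply, rep_inv_apply, rep_mul_apply, rep_simple_sr, map_neg]

omit R in
theorem refl_inv (w : W) (i : I) : (w * cs.simple i * w⁻¹)⁻¹ = w * cs.simple i * w⁻¹ := by
  rw [mul_inv_rev, mul_inv_rev, inv_inv, cs.inv_simple, mul_assoc]

omit R in
theorem refl_next (w : W) (i : I) : w * cs.simple i * cs.simple i * (w * cs.simple i)⁻¹ = w * cs.simple i * w⁻¹ := by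
  rw [mul_inv_rev, cs.inv_simple, mul_assoc w, cs.simple_mul_simple_self, mul_one, mul_assoc]

/-- the right factor -/
theorem Mu.next {w : W} {i : I} {a c m : Y} (H : Mu R w i a c m) : ∃ c', Mu R (w * cs.simple i) i c c' m := by
  obtain ⟨ha, hc, hm, b, hb, e⟩ := H
  have e1 : rep cs h (w * cs.simple i) (sr i) = -rep cs h w (sr i) := by
    rw [rep_mul_apply, rep_simple_sr, map_neg]
  refine ⟨m⁻¹ * b * m, by rw [e1]; exact hc, ?_, by rw [refl_next]; exact hm, a, by rw [e1, neg_neg]; exact ha, ?_⟩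
  · rw [e1, neg_neg]
    have := R.conj_mem' hm (IsRoot.neg ⟨w, i, rfl⟩) hb
    rwa [refl_inv, map_neg, refl_self, neg_neg] at this
  · calc m = b * a * c := e
      _ = a * c * ((b * a * c)⁻¹ * b * (b * a * c)) := by group
      _ = _ := by rw [← e]

/-- uniqueness -/
theorem Mu.uniq [Finite W] {w w' : W} {i i' : I} {a c m c' m' : Y} (H : Mu R w i a c m) (H' : Mu R w' i' a c' m')
    (e1 : rep cs h w' (sr i') = rep cs h w (sr i)) (e2 : w' * cs.simple i' * w'⁻¹ = w * cs.simple i * w⁻¹) : m' = m := by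
  have := Fintype.ofFinite W
  obtain ⟨ha, hc, hm, b, hb, e⟩ := H
  obtain ⟨ha', hc', hm', b', hb', e'⟩ := H'
  rw [e1] at ha' hc' hb'
  rw [e2] at hm'
  rw [e, e']
  rw [e] at hm
  rw [e'] at hm'
  exact mu_unique R ⟨w, i, rfl⟩ hb hc hb' hc' hm hm' (refl_self w i)

/-- conjugates -/
theorem Mu.cj {w v : W} {i : I} {a c m g : Y} (H : Mu R w i a c m) (hg : Rp cs R.nsys v g) :
    Mu R (v * w) i (g * a * g⁻¹) (g * c * g⁻¹) (g * m * g⁻¹) := by
  obtain ⟨ha, hc, hm, b, hb, e⟩ := H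
  refine ⟨?_, ?_, ?_, g * b * g⁻¹, ?_, by rw [e]; group⟩
  · rw [rep_mul_apply]; exact R.conj_mem hg ⟨w, i, rfl⟩ ha
  · rw [rep_mul_apply, ← map_neg]; exact R.conj_mem hg (IsRoot.neg ⟨w, i, rfl⟩) hc
  · have h1 := (hg.mul hm).mul hg.inv
    have e1 : v * (w * cs.simple i * w⁻¹) * v⁻¹ = v * w * cs.simple i * (v * w)⁻¹ := by group
    rwa [e1] at h1
  · rw [rep_mul_apply, ← map_neg]; exact R.conj_mem hg (IsRoot.neg ⟨w, i, rfl⟩) hb

/-- conjugation by the `μ`-element of the adjacent root -/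
theorem Mu.cj' {w : W} {i j : I} {a c m d f N : Y} (H : Mu R w i a c m) (H' : Mu R w j d f N) :
    Mu R (w * cs.simple i) j (m⁻¹ * d * m) (m⁻¹ * f * m) (m⁻¹ * N * m) := by
  have h1 := H'.cj R H.2.2.1.inv
  rw [refl_inv, inv_mul_cancel_right, inv_inv] at h1
  exact h1

/-- one step with `μ`-elements -/
theorem step' [Finite W] {i j : I} (hij : i ≠ j) (hM : M i j ≠ 2) (w : W) {a c m d f N x y : Y} (H : Mu R w i a c m)
    (H' : Mu R w j d f N) (hx : x ∈ X (rep cs h (w * cs.simple i) (sr j))) (hy : y ∈ RGD.Sup X (S' cs h w i j))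
    (e : a⁻¹ * d * a = x * y * d) : m⁻¹ * d * m = x ∧ x⁻¹ * c * x = y * d * c ∧
      Mu R (w * cs.simple i) j x (m⁻¹ * f * m) (m⁻¹ * N * m) ∧ ∃ c', Mu R (w * cs.simple i) i c c' m := by
  have h0 := H.cj' R H'
  have h0' := H.next R
  obtain ⟨ha, hc, hm, b, hb, e'⟩ := H
  obtain ⟨h1, h2⟩ := step R hij hM w ha hb hc H'.1 hm e' hx hy e
  rw [h1] at h0
  exact ⟨h1, h2, h0, h0'⟩

end RG

end Cfsg.Agent.H992.MU
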